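import Groth.Prelude.Def_W4c1chowmix47Eta
import Mathlib.Algebra.CharP.Algebra
import Mathlib.Algebra.CharP.Reduced
import Mathlib.FieldTheory.IsAlgClosed.Basic
import Mathlib.RingTheory.Nilpotent.Lemmas
import Mathlib.RingTheory.Spectrum.Prime.Basic

/-! Base lemmas on the pointwise construction `M_η` (namespace `EtaPt`): the fields part, and the evaluation
`ev φ : N_η(A) → F(E)` at a ring map `φ : A → E` to a field, through which everything else is computed. -/

set_option autoImplicit false
universe u
open EtaPt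

namespace K797.EtaBase

/-- In an extension field of `K`, `x ↦ x ^ (e ^ n)` is injective, `e` the exponential characteristic of `K`. -/
theorem pow_inj {K L : Type*} [Field K] [Field L] (f : K →+* L) (n : ℕ) {x y : L}
    (h : x ^ ringExpChar K ^ n = y ^ ringExpChar K ^ n) : x = y := by
  have : ExpChar L (ringExpChar K) := expChar_of_injective_ringHom f.injective _
  exact iterateFrobenius_inj L (ringExpChar K) n (by simpa [iterateFrobenius_def] using h)

variable (η : FieldEndo.{u})

theorem exists_eta_eq_pow (K : Type u) [Field K] (x : η.obj K) :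
    ∃ (n : ℕ) (y : K), η.eta K y = x ^ ringExpChar K ^ n := by
  obtain ⟨n, y, hy⟩ := η.exists_pow_mem_range_eta K x
  exact ⟨n, y, hy⟩

theorem eta_nat {K L : Type u} [Field K] [Field L] (f : K →+* L) (x : K) :
    η.map f (η.eta K x) = η.eta L (f x) :=
  congrArg (fun h => h x) (congrArg DFunLike.coe (η.eta_natural f))

theorem map_comp_apply {K L E : Type u} [Field K] [Field L] [Field E] (f : K →+* L) (g : L →+* E)
    (x : η.obj K) : η.map (g.comp f) x = η.map g (η.map f x) := by
  rw [η.map_comp]; rfl

theorem map_id_apply (K : Type u) [Field K] (x : η.obj K) : η.map (RingHom.id K) x = x := by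
  rw [η.map_id]; rfl

/-- Two ring maps from `F K` to a field that agree on `K` agree. -/
theorem hom_ext {K : Type u} [Field K] {L : Type*} [Field L] (f g : η.obj K →+* L)
    (h : ∀ x : K, f (η.eta K x) = g (η.eta K x)) : f = g := by
  ext x
  obtain ⟨n, y, hy⟩ := exists_eta_eq_pow η K x
  refine pow_inj (f.comp (η.eta K)) n ?_
  rw [← map_pow, ← map_pow, ← hy, h]

/-- `η_{F K} = F(η_K)`. -/
theorem eta_obj (K : Type u) [Field K] : η.eta (η.obj K) = η.map (η.eta K) :=
  hom_ext η _ _ fun x => (eta_nat η (η.eta K) x).symm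

theorem bijective_eta_obj (K : Type u) [Field K] : Function.Bijective (η.eta (η.obj K)) := by
  rw [eta_obj]; exact η.bijective_map_eta K

theorem bijective_map_of_bijective {K L : Type u} [Field K] [Field L] (f : K →+* L)
    (h : Function.Bijective f) : Function.Bijective (η.map f) := by
  let e : K ≃+* L := RingEquiv.ofBijective f h
  refine ⟨(η.map f).injective, fun y => ⟨η.map e.symm.toRingHom y, ?_⟩⟩
  rw [← map_comp_apply]
  have : f.comp e.symm.toRingHom = RingHom.id L := by
    ext x; exact e.apply_symm_apply x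
  rw [this, map_id_apply]

/-- bijectivity of `η` transfers along isomorphisms of fields. -/
theorem bijective_eta_of_bijective {K L : Type u} [Field K] [Field L] (f : K →+* L)
    (hf : Function.Bijective f) (h : Function.Bijective (η.eta K)) : Function.Bijective (η.eta L) := by
  refine ⟨(η.eta L).injective, fun y => ?_⟩
  obtain ⟨y, rfl⟩ := (bijective_map_of_bijective η f hf).2 y
  obtain ⟨x, rfl⟩ := h.2 y
  exact ⟨f x, (eta_nat η f x).symm⟩

/-- `η` is bijective at a field in which every element has all `e ^ n`-th roots. -/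
theorem bijective_eta_of_pow_surj (K : Type u) [Field K]
    (h : ∀ (n : ℕ) (y : K), ∃ z : K, z ^ ringExpChar K ^ n = y) : Function.Bijective (η.eta K) := by
  refine ⟨(η.eta K).injective, fun x => ?_⟩
  obtain ⟨n, y, hy⟩ := exists_eta_eq_pow η K x
  obtain ⟨z, rfl⟩ := h n y
  exact ⟨z, pow_inj (η.eta K) n (by rw [← hy, map_pow])⟩

theorem bijective_eta_of_isAlgClosed (K : Type u) [Field K] [IsAlgClosed K] :
    Function.Bijective (η.eta K) :=
  bijective_eta_of_pow_surj η K fun n y =>
    IsAlgClosed.exists_pow_nat_eq y (pow_pos (expChar_pos K (ringExpChar K)) n)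

theorem inV_iff (R : Type u) [CommRing R] [IsDomain R] (K : Type u) [Field K] [Algebra R K]
    [IsFractionRing R K] : η.InV R ↔ Function.Bijective (η.eta K) := by
  have e : FractionRing R ≃+* K := (FractionRing.algEquiv R K).toRingEquiv
  exact ⟨bijective_eta_of_bijective η e.toRingHom e.bijective,
    bijective_eta_of_bijective η e.symm.toRingHom e.symm.bijective⟩

section ev

variable {A B C : Type u} [CommRing A] [CommRing B] [CommRing C]

/-- the point of `Spec A` below a map to a field -/
def pt {E : Type*} [Field E] (φ : A →+* E) : PrimeSpectrum A := ⟨RingHom.ker φ, RingHom.ker_isPrime φ⟩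

theorem pt_asIdeal {E : Type*} [Field E] (φ : A →+* E) : (pt φ).asIdeal = RingHom.ker φ := rfl

theorem mem_pt {E : Type*} [Field E] (φ : A →+* E) (a : A) : a ∈ (pt φ).asIdeal ↔ φ a = 0 := Iff.rfl

/-- the residue field map of a map to a field -/
noncomputable def kap {E : Type*} [Field E] (φ : A →+* E) : (pt φ).asIdeal.ResidueField →+* E :=
  Ideal.ResidueField.lift (pt φ).asIdeal φ (le_of_eq rfl) fun _ ha =>
    isUnit_iff_ne_zero.mpr fun h => ha h

theorem kap_algebraMap {E : Type*} [Field E] (φ : A →+* E) (a : A) :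
    kap φ (algebraMap A _ a) = φ a :=
  Ideal.ResidueField.lift_algebraMap _ _ _ _ _

theorem kap_comp {E : Type*} [Field E] (φ : A →+* E) :
    (kap φ).comp (algebraMap A _) = φ :=
  RingHom.ext fun a => kap_algebraMap φ a

theorem pt_comp {E E' : Type*} [Field E] [Field E'] (φ : A →+* E) (g : E →+* E') :
    pt (g.comp φ) = pt φ := by
  ext a; simp [mem_pt]

theorem pt_comp' {E : Type*} [Field E] (f : A →+* B) (φ : B →+* E) :
    pt (φ.comp f) = PrimeSpectrum.comap f (pt φ) := by
  ext a; simp [mem_pt]

theorem pt_algebraMap (p : PrimeSpectrum A) : pt (algebraMap A p.asIdeal.ResidueField) = p := by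
  ext a; simp [mem_pt]

/-- evaluation of `N_η(A)` at a map from `A` to a field -/
noncomputable def ev {E : Type u} [Field E] (φ : A →+* E) : η.N A →+* η.obj E :=
  (η.map (kap φ)).comp (Pi.evalRingHom (fun p : PrimeSpectrum A => η.obj p.asIdeal.ResidueField) (pt φ))

theorem ev_apply {E : Type u} [Field E] (φ : A →+* E) (x : η.N A) :
    ev η φ x = η.map (kap φ) (x (pt φ)) := rfl

theorem ev_of_comp {E : Type u} [Field E] (φ : A →+* E) (p : PrimeSpectrum A)
    (ψ : p.asIdeal.ResidueField →+* E) (h : ψ.comp (algebraMap A _) = φ) (x : η.N A) :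
    ev η φ x = η.map ψ (x p) := by
  have hp : pt φ = p := by rw [← h, pt_comp, pt_algebraMap]
  subst hp
  have : ψ = kap φ := by
    apply Ideal.ResidueField.ringHom_ext
    rw [h, kap_comp]
  rw [this]; rfl

theorem ev_residue (p : PrimeSpectrum A) (x : η.N A) :
    ev η (algebraMap A p.asIdeal.ResidueField) x = x p := by
  rw [ev_of_comp η _ p (RingHom.id _) (RingHom.id_comp _), map_id_apply]

theorem ev_t {E : Type u} [Field E] (φ : A →+* E) (a : A) : ev η φ (η.t A a) = η.eta E (φ a) := by
  rw [ev_apply]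
  change η.map (kap φ) (η.eta _ (algebraMap A _ a)) = _
  rw [eta_nat, kap_algebraMap]

theorem ev_Nmap {E : Type u} [Field E] (f : A →+* B) (φ : B →+* E) (x : η.N A) :
    ev η φ (η.Nmap f x) = ev η (φ.comp f) x := by
  rw [ev_apply]
  change η.map (kap φ) (η.map _ (x _)) = _
  rw [← map_comp_apply]
  symm
  apply ev_of_comp
  ext a
  simp only [RingHom.comp_apply]
  erw [Ideal.ResidueField.map_algebraMap]
  rw [kap_algebraMap]

theorem ev_comp {E E' : Type u} [Field E] [Field E'] (φ : A →+* E) (g : E →+* E') (x : η.N A) :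
    ev η (g.comp φ) x = η.map g (ev η φ x) := by
  rw [ev_apply η φ, ← map_comp_apply]
  apply ev_of_comp
  rw [RingHom.comp_assoc, kap_comp]

theorem ev_ext {x y : η.N A} (h : ∀ p : PrimeSpectrum A,
    ev η (algebraMap A p.asIdeal.ResidueField) x = ev η (algebraMap A p.asIdeal.ResidueField) y) : x = y := by
  funext p
  rw [← ev_residue η p x, ← ev_residue η p y, h p]

theorem ev_eq_iff {E : Type u} [Field E] (φ : A →+* E) (x y : η.N A) :
    ev η φ x = ev η φ y ↔ x (pt φ) = y (pt φ) :=
  (η.map (kap φ)).injective.eq_iff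

theorem ev_eq_zero_iff {E : Type u} [Field E] (φ : A →+* E) (x : η.N A) :
    ev η φ x = 0 ↔ x (pt φ) = 0 :=
  map_eq_zero_iff _ (η.map (kap φ)).injective

/-- Whether two elements agree at a field-valued point only depends on the underlying prime. -/
theorem ev_eq_iff_of_pt_eq {E E' : Type u} [Field E] [Field E'] (φ : A →+* E) (φ' : A →+* E')
    (h : pt φ = pt φ') (x y : η.N A) : ev η φ x = ev η φ y ↔ ev η φ' x = ev η φ' y := by
  rw [ev_eq_iff, ev_eq_iff, h]

theorem Nmap_apply (f : A →+* B) (x : η.N A) (q : PrimeSpectrum B) :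
    η.Nmap f x q = ev η ((algebraMap B q.asIdeal.ResidueField).comp f) x := by
  rw [← ev_Nmap, ev_residue]

theorem Nmap_id (x : η.N A) : η.Nmap (RingHom.id A) x = x :=
  ev_ext η fun p => by rw [ev_Nmap, RingHom.comp_id]

theorem Nmap_comp (f : A →+* B) (g : B →+* C) (x : η.N A) :
    η.Nmap (g.comp f) x = η.Nmap g (η.Nmap f x) :=
  ev_ext η fun p => by rw [ev_Nmap, ev_Nmap, ev_Nmap, RingHom.comp_assoc]

theorem mem_M_iff (x : η.N A) : x ∈ η.M A ↔
    ∀ (R : Type u) [CommRing R] [IsDomain R] [ValuationRing R], η.InV R →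
      ∀ g : A →+* R, η.Nmap g x ∈ (η.t R).range := Iff.rfl

/-- functoriality of `M` -/
theorem Nmap_mem_M (f : A →+* B) {x : η.N A} (hx : x ∈ η.M A) : η.Nmap f x ∈ η.M B := by
  intro R _ _ _ hR g
  rw [← Nmap_comp]
  exact hx R hR _

theorem mem_range_t_iff (x : η.N A) : x ∈ (η.t A).range ↔
    ∃ a : A, ∀ p : PrimeSpectrum A, ev η (algebraMap A p.asIdeal.ResidueField) x =
      η.eta _ (algebraMap A p.asIdeal.ResidueField a) := by
  constructor
  · rintro ⟨a, rfl⟩
    exact ⟨a, fun p => ev_t η _ _⟩
  · rintro ⟨a, ha⟩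
    exact ⟨a, ev_ext η fun p => by rw [ev_t, ha]⟩

theorem q_coe (a : A) : ((η.q A a : η.M A) : η.N A) = η.t A a := rfl

theorem t_eq_zero_iff (a : A) : η.t A a = 0 ↔ IsNilpotent a := by
  rw [nilpotent_iff_mem_prime]
  constructor
  · intro h J hJ
    have := congrArg (ev η (algebraMap A J.ResidueField)) h
    rw [ev_t, map_zero, map_eq_zero] at this
    simpa using this
  · intro h
    refine ev_ext η fun p => ?_
    rw [ev_t, map_zero, map_eq_zero]
    simpa using h p.asIdeal p.2

theorem t_injective [IsReduced A] : Function.Injective (η.t A) := by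
  rw [injective_iff_map_eq_zero]
  intro a ha
  rw [t_eq_zero_iff] at ha
  exact ha.eq_zero

theorem q_injective [IsReduced A] : Function.Injective (η.q A) := fun _ _ h =>
  t_injective η (congrArg (Subtype.val) h)

/-- `N_η(f)` is injective when `Spec f` is surjective. -/
theorem Nmap_injective_of_surjective (f : A →+* B)
    (hs : Function.Surjective (PrimeSpectrum.comap f)) : Function.Injective (η.Nmap f) := by
  intro x y h
  refine ev_ext η fun p => ?_
  obtain ⟨q, rfl⟩ := hs p
  have h1 := congrArg (ev η (algebraMap B q.asIdeal.ResidueField)) h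
  rw [ev_Nmap, ev_Nmap] at h1
  refine (ev_eq_iff_of_pt_eq η _ _ ?_ x y).mp h1
  rw [pt_comp', pt_algebraMap, pt_algebraMap]

end ev

end K797.EtaBase
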