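import Groth.Agent.EtaPt.K797.Nbij
import Mathlib.Algebra.GCDMonoid.IntegrallyClosed

/-! `M_η` of fields, domains, products (namespace `EtaPt`). -/

set_option autoImplicit false
universe u
open EtaPt K797.EtaBase K797.EtaVal K797.EtaNbij

namespace K797.EtaDom

variable (η : FieldEndo.{u})

/-- If `x ^ (e ^ n) = t a` for `e` the exponential characteristic of all the fields under `A`
(say of a field `k` mapping to `A`), then `x ∈ M A`. -/
theorem mem_M_of_pow_eq_t {A : Type u} [CommRing A] (x : η.N A) (a : A) (n e : ℕ)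
    (he : ∀ (E : Type u) [Field E], (A →+* E) → ExpChar E e)
    (hroot : ∀ (R : Type u) [CommRing R] [IsDomain R] [ValuationRing R], η.InV R →
      ∀ g : A →+* R, ∃ s : FractionRing R, s ^ e ^ n = algebraMap R _ (g a))
    (hx : x ^ e ^ n = η.t A a) : x ∈ η.M A := by
  intro R _ _ _ hR g
  obtain ⟨s, hs⟩ := hroot R hR g
  have hpos : 0 < e ^ n := by
    have := he (FractionRing R) ((algebraMap R _).comp g)
    exact pow_pos (expChar_pos (FractionRing R) e) n
  have hint : IsIntegral R s := IsIntegral.of_pow hpos (by rw [hs]; exact isIntegral_algebraMap)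
  obtain ⟨r, rfl⟩ := (IsIntegrallyClosed.isIntegral_iff (R := R)).mp hint
  have hr : r ^ e ^ n = g a := by
    apply IsFractionRing.injective R (FractionRing R)
    rw [map_pow, hs]
  refine ⟨r, ev_ext η fun p => ?_⟩
  have := he p.asIdeal.ResidueField ((algebraMap R _).comp g)
  have : ExpChar (η.obj p.asIdeal.ResidueField) e :=
    expChar_of_injective_ringHom (η.eta p.asIdeal.ResidueField).injective _
  apply iterateFrobenius_inj (η.obj p.asIdeal.ResidueField) e n
  rw [iterateFrobenius_def, iterateFrobenius_def, ← map_pow, ← map_pow, ← map_pow, hr, ← map_pow, hx,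
    η.Nmap_t_apply]

/-- S13807: over a field `M = N`. -/
theorem M_eq_top_of_field (K : Type u) [Field K] : η.M K = ⊤ := by
  rw [eq_top_iff]
  rintro x -
  obtain ⟨n, y, hy⟩ := exists_eta_eq_pow η K (ev η (RingHom.id K) x)
  refine mem_M_of_pow_eq_t η x y n (ringExpChar K) (fun E _ φ => expChar_of_injective_ringHom φ.injective _)
    (fun R _ _ _ hR g => ?_) ?_
  · obtain ⟨s, hs⟩ := hR.2 (ev η ((algebraMap R (FractionRing R)).comp g) x)
    refine ⟨s, hR.1 ?_⟩
    rw [map_pow, hs]
    have : ev η ((algebraMap R (FractionRing R)).comp g) x =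
        η.map ((algebraMap R (FractionRing R)).comp g) (ev η (RingHom.id K) x) := by
      rw [← ev_comp, RingHom.comp_id]
    rw [this, ← map_pow, ← hy, eta_nat]
    rfl
  · refine ev_ext η fun p => ?_
    rw [ev_t, map_pow]
    have : ev η (algebraMap K p.asIdeal.ResidueField) x =
        η.map (algebraMap K p.asIdeal.ResidueField) (ev η (RingHom.id K) x) := by
      rw [← ev_comp, RingHom.comp_id]
    rw [this, ← map_pow, ← hy, eta_nat]

/-- Every prime of a domain `A` is the centre of a valuation ring of the fraction field of `A`. -/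
theorem exists_valuationSubring_center {A : Type u} [CommRing A] [IsDomain A] (K : Type u) [Field K]
    [Algebra A K] [IsFractionRing A K] (p : PrimeSpectrum A) :
    ∃ (V : ValuationSubring K) (h : ∀ a, algebraMap A K a ∈ V.toSubring),
      (IsLocalRing.maximalIdeal V).comap ((algebraMap A K).codRestrict V.toSubring h) = p.asIdeal := by
  let i : Localization.AtPrime p.asIdeal →+* K :=
    IsLocalization.lift (M := p.asIdeal.primeCompl) (g := algebraMap A K) (fun y => by
      rw [isUnit_iff_ne_zero, Ne, map_eq_zero_iff _ (IsFractionRing.injective A K)]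
      rintro h0
      exact y.2 (by rw [h0]; exact zero_mem _))
  have hi : ∀ a, i (algebraMap A _ a) = algebraMap A K a := fun a => IsLocalization.lift_eq _ a
  obtain ⟨V, hV, hloc⟩ := IsLocalRing.exists_factor_valuationRing i
  refine ⟨V, fun a => by rw [← hi]; exact hV _, ?_⟩
  ext a
  rw [Ideal.mem_comap]
  have : (algebraMap A K).codRestrict V.toSubring (fun a => by rw [← hi]; exact hV _) a =
      i.codRestrict V.toSubring hV (algebraMap A _ a) := Subtype.ext (hi a).symm
  rw [this]
  rw [← IsLocalization.AtPrime.to_map_mem_maximal_iff (Localization.AtPrime p.asIdeal) p.asIdeal a]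
  rw [IsLocalRing.mem_maximalIdeal, IsLocalRing.mem_maximalIdeal]
  exact (not_congr (isUnit_map_iff (i.codRestrict V.toSubring hV) _))

/-- Elements of `M A`, `A` a domain with `η` bijective at the fraction field `K`, that agree at `K` agree. -/
theorem eq_of_ev_eq {A : Type u} [CommRing A] [IsDomain A] (K : Type u) [Field K]
    [Algebra A K] [IsFractionRing A K] (hK : Function.Bijective (η.eta K)) {x y : η.N A}
    (hx : x ∈ η.M A) (hy : y ∈ η.M A) (h : ev η (algebraMap A K) x = ev η (algebraMap A K) y) : x = y := by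
  refine ev_ext η fun p => ?_
  obtain ⟨V, hV, hp⟩ := exists_valuationSubring_center K p
  have hInV : η.InV V := (inV_iff η V K).mpr hK
  obtain ⟨r, hr⟩ := hx V hInV ((algebraMap A K).codRestrict V.toSubring hV)
  obtain ⟨s, hs⟩ := hy V hInV ((algebraMap A K).codRestrict V.toSubring hV)
  have hc : (algebraMap V K).comp ((algebraMap A K).codRestrict V.toSubring hV) = algebraMap A K := rfl
  have h1 := congrArg (ev η (algebraMap V K)) hr
  have h2 := congrArg (ev η (algebraMap V K)) hs
  rw [ev_t, ev_Nmap, hc] at h1 h2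
  have hrs : r = s := by
    apply IsFractionRing.injective V K
    apply hK.1
    rw [h1, h2, h]
  subst hrs
  have h3 := congrArg (ev η (IsLocalRing.residue V)) (hr.symm.trans hs)
  rw [ev_Nmap, ev_Nmap] at h3
  refine (ev_eq_iff_of_pt_eq η _ _ ?_ x y).mp h3
  rw [pt_algebraMap]
  ext a
  rw [← hp, mem_pt, Ideal.mem_comap]
  exact IsLocalRing.residue_eq_zero_iff _

instance isPrime_bot' {A : Type u} [CommRing A] [IsDomain A] : (⊥ : Ideal A).IsPrime := Ideal.isPrime_bot

/-- S13808 -/
theorem injOn_generic {A : Type u} [CommRing A] [IsDomain A] (hA : η.InV A) :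
    Set.InjOn (fun x : η.N A => x ⟨⊥, Ideal.isPrime_bot⟩) (η.M A) := by
  intro x hx y hy h
  refine eq_of_ev_eq η (⊥ : Ideal A).ResidueField ((inV_iff η A _).mp hA) hx hy ?_
  exact (ev_residue η ⟨⊥, Ideal.isPrime_bot⟩ x).trans (h.trans (ev_residue η ⟨⊥, Ideal.isPrime_bot⟩ y).symm)

/-- the generic component of an element of `M A`, `A` integrally closed with `η` bijective at the fraction
field -/
theorem exists_eq_t {A : Type u} [CommRing A] [IsDomain A] [IsIntegrallyClosed A] (hA : η.InV A)
    {x : η.N A} (hx : x ∈ η.M A) : ∃ a, x = η.t A a := by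
  let K := FractionRing A
  obtain ⟨s, hs⟩ := hA.2 (ev η (algebraMap A K) x)
  suffices h : s ∈ (algebraMap A K).range by
    obtain ⟨a, rfl⟩ := h
    exact ⟨a, eq_of_ev_eq η K hA hx (η.t_mem_M A a) (by rw [ev_t, hs])⟩
  have hcl : IsIntegrallyClosedIn (algebraMap A K).range K := by
    rw [Subring.isIntegrallyClosedIn_iff]
    rintro y ⟨q, hq, hq0⟩
    let e : A ≃+* (algebraMap A K).range := RingEquiv.ofBijective (algebraMap A K).rangeRestrict
      ⟨fun a b h => IsFractionRing.injective A K (congrArg Subtype.val h),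
        (algebraMap A K).rangeRestrict_surjective⟩
    have hint : IsIntegral A y := by
      refine ⟨q.map e.symm.toRingHom, hq.map _, ?_⟩
      rw [Polynomial.eval₂_map]
      have : (algebraMap A K).comp e.symm.toRingHom = algebraMap (algebraMap A K).range K := by
        ext z
        obtain ⟨a, rfl⟩ := e.surjective z
        change algebraMap A K (e.symm (e a)) = _
        rw [e.symm_apply_apply]
        rfl
      rw [this]
      exact hq0
    obtain ⟨a, ha⟩ := (IsIntegrallyClosed.isIntegral_iff (R := A)).mp hint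
    exact ⟨a, ha⟩
  rw [Subring.eq_iInf_of_isIntegrallyClosedIn (R := (algebraMap A K).range), Subring.mem_iInf]
  rintro ⟨V, hV⟩
  have hV' : ∀ a, algebraMap A K a ∈ V.toSubring := fun a => hV ⟨a, rfl⟩
  obtain ⟨r, hr⟩ := hx V ((inV_iff η V K).mpr hA) ((algebraMap A K).codRestrict V.toSubring hV')
  have h1 := congrArg (ev η (algebraMap V K)) hr
  rw [ev_t, ev_Nmap] at h1
  have h2 : algebraMap V K r = s := by
    apply hA.1
    rw [h1, hs]
    rfl
  rw [← h2]
  exact r.2

/-- S13809 -/
theorem bijective_q_of_isIntegrallyClosed {A : Type u} [CommRing A] [IsDomain A] [IsIntegrallyClosed A]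
    (hA : η.InV A) : Function.Bijective (η.q A) := by
  refine ⟨q_injective η, ?_⟩
  rintro ⟨x, hx⟩
  obtain ⟨a, ha⟩ := exists_eq_t η hA hx
  exact ⟨a, Subtype.ext ha.symm⟩

end K797.EtaDom
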