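import Groth.Agent.EtaPt.K797.IntCl

/-! `M_η(A)` for `A` with finitely many minimal primes. -/

set_option autoImplicit false
universe u
open EtaPt K797.EtaBase K797.EtaVal K797.EtaNbij K797.EtaDom K797.EtaIntCl

namespace K797.EtaFin

variable (η : FieldEndo.{u}) {A : Type u} [CommRing A]

/-- every prime contains a minimal prime -/
theorem exists_min_le (q : PrimeSpectrum A) : ∃ p : PrimeSpectrum A, p.asIdeal ∈ minimalPrimes A ∧ p ≤ q := by
  obtain ⟨p, hp, hle⟩ := Ideal.exists_minimalPrimes_le (I := (⊥ : Ideal A)) (J := q.asIdeal) bot_le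
  exact ⟨⟨p, hp.1.1⟩, hp, hle⟩

/-- An element of `M A` vanishing at the minimal primes is zero. -/
theorem eq_zero_of_min (x : η.M A) (h : ∀ p : PrimeSpectrum A, p.asIdeal ∈ minimalPrimes A → x.1 p = 0) : x = 0 := by
  apply Subtype.ext
  funext q
  obtain ⟨p, hp, hle⟩ := exists_min_le q
  exact eq_zero_of_le η hle x (h p hp)

theorem finite_min (hA : (minimalPrimes A).Finite) :
    {p : PrimeSpectrum A | p.asIdeal ∈ minimalPrimes A}.Finite :=
  Set.Finite.preimage (fun _ _ _ _ h => PrimeSpectrum.ext h) hA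

/-- S13802 -/
theorem isIntegral_q (hA : (minimalPrimes A).Finite) : (η.q A).IsIntegral := by
  classical
  intro x
  have hint : ∀ p : PrimeSpectrum A, ∃ P : Polynomial A, P.Monic ∧ (P.eval₂ (η.q A) x).1 p = 0 := by
    intro p
    obtain ⟨P, hP, hP0⟩ := isIntegral_component η p x.2
    refine ⟨P, hP, ?_⟩
    have : (P.eval₂ (η.q A) x).1 p = evM η p (P.eval₂ (η.q A) x) := rfl
    rw [this, Polynomial.hom_eval₂, evM_comp_q]
    exact hP0
  choose P hP hP0 using hint
  refine ⟨∏ p ∈ (finite_min hA).toFinset, P p, Polynomial.monic_prod_of_monic _ _ fun p _ => hP p, ?_⟩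
  refine eq_zero_of_min η _ fun p hp => ?_
  rw [← evM_apply, Polynomial.eval₂_finsetProd, map_prod]
  exact Finset.prod_eq_zero ((finite_min hA).mem_toFinset.mpr hp) (hP0 p)

/-- every prime of `M A` is the kernel of an evaluation -/
theorem eq_pt_evM (hA : (minimalPrimes A).Finite) (Q : PrimeSpectrum (η.M A)) :
    Q = pt (evM η (PrimeSpectrum.comap (η.q A) Q)) := by
  classical
  have h : (finite_min hA).toFinset.inf (fun p => (pt (evM η p)).asIdeal) ≤ Q.asIdeal := by
    intro x hx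
    have : x = 0 := eq_zero_of_min η x fun p hp => by
      have := (Finset.inf_le (f := fun p => (pt (evM η p)).asIdeal) ((finite_min hA).mem_toFinset.mpr hp)) hx
      exact this
    rw [this]; exact zero_mem _
  obtain ⟨p, -, hp⟩ := (Ideal.IsPrime.inf_le' Q.2).mp h
  exact eq_pt_evM_of_le η p Q hp

theorem comap_q_bijective (hA : (minimalPrimes A).Finite) :
    Function.Bijective (PrimeSpectrum.comap (η.q A)) := by
  refine ⟨fun Q₁ Q₂ h => ?_, fun p => ⟨_, comap_q_pt_evM η p⟩⟩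
  rw [eq_pt_evM η hA Q₁, eq_pt_evM η hA Q₂, h]

/-- the residue field factorisation -/
theorem exists_residue_factor (hA : (minimalPrimes A).Finite) (Q : PrimeSpectrum (η.M A)) :
    ∃ φ : Q.asIdeal.ResidueField →+* η.obj (PrimeSpectrum.comap (η.q A) Q).asIdeal.ResidueField,
      (∀ x : η.M A, φ (algebraMap (η.M A) _ x) = x.1 (PrimeSpectrum.comap (η.q A) Q)) ∧
      φ.comp (Ideal.ResidueField.map (PrimeSpectrum.comap (η.q A) Q).asIdeal Q.asIdeal (η.q A) rfl) =
        η.eta (PrimeSpectrum.comap (η.q A) Q).asIdeal.ResidueField := by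
  have hmem : ∀ x : η.M A, x ∈ Q.asIdeal ↔ x.1 (PrimeSpectrum.comap (η.q A) Q) = 0 := by
    intro x
    conv_lhs => rw [eq_pt_evM η hA Q]
    exact mem_pt_evM η _ x
  let φ : Q.asIdeal.ResidueField →+* η.obj (PrimeSpectrum.comap (η.q A) Q).asIdeal.ResidueField :=
    Ideal.ResidueField.lift Q.asIdeal (evM η (PrimeSpectrum.comap (η.q A) Q)) (fun x hx => (hmem x).mp hx)
      (fun x hx => isUnit_iff_ne_zero.mpr fun h => hx ((hmem x).mpr h))
  have hφ : ∀ x : η.M A, φ (algebraMap (η.M A) _ x) = x.1 (PrimeSpectrum.comap (η.q A) Q) := fun x =>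
    Ideal.ResidueField.lift_algebraMap _ _ _ _ _
  refine ⟨φ, hφ, ?_⟩
  apply Ideal.ResidueField.ringHom_ext
  ext a
  exact (congrArg φ (Ideal.ResidueField.map_algebraMap _ _ _ _ _)).trans (hφ (η.q A a))

/-- S13803 -/
theorem comap_q_bijective_and_residue_factor (hA : (minimalPrimes A).Finite) :
    Function.Bijective (PrimeSpectrum.comap (η.q A)) ∧
      ∀ Q : PrimeSpectrum (η.M A),
        ∃ φ : Q.asIdeal.ResidueField →+* η.obj (PrimeSpectrum.comap (η.q A) Q).asIdeal.ResidueField,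
          φ.comp (Ideal.ResidueField.map (PrimeSpectrum.comap (η.q A) Q).asIdeal Q.asIdeal (η.q A) rfl) =
            η.eta (PrimeSpectrum.comap (η.q A) Q).asIdeal.ResidueField :=
  ⟨comap_q_bijective η hA, fun Q => by
    obtain ⟨φ, -, h⟩ := exists_residue_factor η hA Q
    exact ⟨φ, h⟩⟩

/-- S13804 -/
theorem bijective_Nmap_q (hA : (minimalPrimes A).Finite) : Function.Bijective (η.Nmap (η.q A)) := by
  rw [bijective_Nmap_iff]
  refine ⟨comap_q_bijective η hA, fun Q => ⟨RingHom.injective _, fun y => ?_⟩⟩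
  obtain ⟨φ, -, hφ⟩ := exists_residue_factor η hA Q
  obtain ⟨z, hz⟩ := (η.bijective_map_eta (PrimeSpectrum.comap (η.q A) Q).asIdeal.ResidueField).2 (η.map φ y)
  refine ⟨z, (η.map φ).injective ?_⟩
  rw [← map_comp_apply, hφ, hz]

/-- the two maps `M A → M (M A)` agree -/
theorem Nmap_q_eq_t (hA : (minimalPrimes A).Finite) (x : η.M A) :
    η.Nmap (η.q A) (x : η.N A) = η.t (η.M A) x := by
  funext Q
  obtain ⟨φ, hφ', hφ⟩ := exists_residue_factor η hA Q
  apply (η.map φ).injective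
  have h1 : η.map φ (η.Nmap (η.q A) x.1 Q) =
      η.map (φ.comp (Ideal.ResidueField.map (PrimeSpectrum.comap (η.q A) Q).asIdeal Q.asIdeal (η.q A) rfl))
        (x.1 (PrimeSpectrum.comap (η.q A) Q)) := (map_comp_apply η _ _ _).symm
  have h2 : η.map φ (η.t (η.M A) x Q) = η.eta _ (φ (algebraMap (η.M A) _ x)) := eta_nat η φ _
  rw [h1, h2, hφ, hφ', eta_obj]

/-- S13815 -/
theorem bijective_q_M (hA : (minimalPrimes A).Finite) : Function.Bijective (η.q (η.M A)) := by
  have hB := bijOn_Nmap_M η (η.q A) (isIntegral_q η hA) (bijective_Nmap_q η hA)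
  constructor
  · intro x y h
    have h1 : η.t (η.M A) x = η.t (η.M A) y := congrArg Subtype.val h
    rw [← Nmap_q_eq_t η hA, ← Nmap_q_eq_t η hA] at h1
    exact Subtype.ext (hB.injOn x.2 y.2 h1)
  · rintro ⟨y, hy⟩
    obtain ⟨x, hx, rfl⟩ := hB.surjOn hy
    exact ⟨⟨x, hx⟩, Subtype.ext (Nmap_q_eq_t η hA ⟨x, hx⟩).symm⟩

/-- S13805 -/
theorem bijective_of_isIntegral (hA : (minimalPrimes A).Finite) (B : Type u) [CommRing B] [IsReduced B]
    (f : η.M A →+* B) (hf : f.IsIntegral) (hN : Function.Bijective (η.Nmap f)) : Function.Bijective f := by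
  have hB := bijOn_Nmap_M η f hf hN
  have hq := bijective_q_M η hA
  constructor
  · intro x y h
    apply hq.1
    apply Subtype.ext
    apply hN.1
    change η.Nmap f (η.t _ x) = η.Nmap f (η.t _ y)
    rw [η.Nmap_t_apply, η.Nmap_t_apply, h]
  · intro b
    obtain ⟨y, hy, hyb⟩ := hB.surjOn (η.t_mem_M B b)
    obtain ⟨c, hc⟩ := hq.2 ⟨y, hy⟩
    refine ⟨c, t_injective η ?_⟩
    rw [← hyb, ← η.Nmap_t_apply]
    congr 1
    exact congrArg Subtype.val hc

/-- the isomorphism `M A ≃ M B` for `f : A → B` integral with `N f` bijective -/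
theorem exists_equiv_M {A B : Type u} [CommRing A] [CommRing B] (f : A →+* B)
    (hf : f.IsIntegral) (hN : Function.Bijective (η.Nmap f)) :
    ∃ e : η.M A ≃+* η.M B, ∀ x, ((e x : η.M B) : η.N B) = η.Nmap f x.1 := by
  have hB := bijOn_Nmap_M η f hf hN
  let g : η.M A →+* η.M B := ((η.Nmap f).comp (η.M A).subtype).codRestrict (η.M B)
    fun x => Nmap_mem_M η f x.2
  refine ⟨RingEquiv.ofBijective g ⟨fun x y h => ?_, ?_⟩, fun x => rfl⟩
  · exact Subtype.ext (hB.injOn x.2 y.2 (congrArg Subtype.val h))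
  · rintro ⟨y, hy⟩
    obtain ⟨x, hx, rfl⟩ := hB.surjOn hy
    exact ⟨⟨x, hx⟩, rfl⟩

/-- Two maps from `B` to a field that agree on `A` agree, if `N g` is bijective, `g : A → B`. -/
theorem hom_ext_of_bijective_Nmap {A B : Type u} [CommRing A] [CommRing B] (g : A →+* B)
    (hN : Function.Bijective (η.Nmap g)) {K : Type*} [Field K] (γ₁ γ₂ : B →+* K)
    (h : γ₁.comp g = γ₂.comp g) : γ₁ = γ₂ := by
  obtain ⟨hc, hb⟩ := (bijective_Nmap_iff η g).mp hN
  have hpt : pt γ₂ = pt γ₁ := by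
    apply hc.1
    rw [← pt_comp', ← pt_comp', h]
  ext b
  let q := pt γ₁
  let κ := Ideal.ResidueField.map (PrimeSpectrum.comap g q).asIdeal q.asIdeal g rfl
  have hκ : ∀ a, κ (algebraMap A _ a) = algebraMap B _ (g a) := fun a =>
    Ideal.ResidueField.map_algebraMap _ _ _ _ _
  -- lifts of `γ₁`, `γ₂` to `k(q)`
  obtain ⟨δ₁, hδ₁⟩ : ∃ δ : q.asIdeal.ResidueField →+* K, ∀ b, δ (algebraMap B _ b) = γ₁ b :=
    ⟨kap γ₁, kap_algebraMap γ₁⟩
  obtain ⟨δ₂, hδ₂⟩ : ∃ δ : q.asIdeal.ResidueField →+* K, ∀ b, δ (algebraMap B _ b) = γ₂ b := by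
    have : q = pt γ₂ := hpt.symm
    rw [this]
    exact ⟨kap γ₂, kap_algebraMap γ₂⟩
  have hδ : δ₁.comp κ = δ₂.comp κ := by
    apply Ideal.ResidueField.ringHom_ext
    ext a
    simp only [RingHom.comp_apply]
    rw [hκ, hδ₁, hδ₂]
    exact congrArg (fun h => h a) (congrArg DFunLike.coe h)
  obtain ⟨w, hw⟩ := (hb q).2 (η.eta _ (algebraMap B _ b))
  obtain ⟨n, v, hv⟩ := exists_eta_eq_pow η _ w
  have hz : (algebraMap B q.asIdeal.ResidueField b) ^ ringExpChar (PrimeSpectrum.comap g q).asIdeal.ResidueField ^ n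
      = κ v := by
    apply (η.eta _).injective
    rw [map_pow, ← hw, ← map_pow, ← hv, eta_nat]
  rw [← hδ₁, ← hδ₂]
  refine pow_inj (δ₁.comp κ) n ?_
  have h1 := congrArg δ₁ hz
  have h2 := congrArg δ₂ hz
  rw [map_pow] at h1 h2
  rw [h1, h2]
  exact congrArg (fun h => h v) (congrArg DFunLike.coe hδ)

/-- S13806 (no finiteness needed) -/
theorem existsUnique_lift {A B : Type u} [CommRing A] [CommRing B] (g : A →+* B)
    (hg : g.IsIntegral) (hN : Function.Bijective (η.Nmap g)) :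
    ∃! g' : B →+* η.M A, g'.comp g = η.q A := by
  obtain ⟨e, he⟩ := exists_equiv_M η g hg hN
  refine ⟨e.symm.toRingHom.comp (η.q B), ?_, fun g' hg' => ?_⟩
  · ext1 a
    change e.symm (η.q B (g a)) = η.q A a
    rw [RingEquiv.symm_apply_eq]
    apply Subtype.ext
    rw [he]
    exact (η.Nmap_t_apply g a).symm
  · have h2 : (e.symm.toRingHom.comp (η.q B)).comp g = η.q A := by
      ext1 a
      change e.symm (η.q B (g a)) = η.q A a
      rw [RingEquiv.symm_apply_eq]
      apply Subtype.ext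
      rw [he]
      exact (η.Nmap_t_apply g a).symm
    ext1 b
    apply Subtype.ext
    funext p
    have := hom_ext_of_bijective_Nmap η g hN ((evM η p).comp g')
      ((evM η p).comp (e.symm.toRingHom.comp (η.q B))) (by
        rw [RingHom.comp_assoc, RingHom.comp_assoc, hg', h2])
    exact congrArg (fun h => h b) (congrArg DFunLike.coe this)

section rel

variable {A B : Type u} [CommRing A] [CommRing B] (f : A →+* B)

theorem mem_rel_iff (b : B) : b ∈ η.rel f ↔ ∃ x ∈ η.M A, η.Nmap f x = η.t B b := Iff.rfl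

/-- the comparison map `(B/A)_η → M A` -/
theorem exists_relToM (hs : Function.Surjective (PrimeSpectrum.comap f)) :
    ∃ s : η.rel f →+* η.M A, (∀ b, η.Nmap f (s b).1 = η.t B b.1) ∧ s.comp (η.qRel f) = η.q A := by
  have hinj := Nmap_injective_of_surjective η f hs
  have key : ∀ b : η.rel f, ∃ x : η.M A, η.Nmap f x.1 = η.t B b.1 := by
    rintro ⟨b, x, hx, hxb⟩
    exact ⟨⟨x, hx⟩, hxb⟩
  choose s hs' using key
  have hext : ∀ x y : η.M A, η.Nmap f x.1 = η.Nmap f y.1 → x = y := fun x y h => Subtype.ext (hinj h)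
  let s' : η.rel f →+* η.M A :=
    { toFun := s
      map_one' := hext _ _ (by rw [hs']; simp)
      map_zero' := hext _ _ (by rw [hs']; simp)
      map_mul' := fun a b => hext _ _ (by rw [hs']; simp [hs'])
      map_add' := fun a b => hext _ _ (by rw [hs']; simp [hs']) }
  refine ⟨s', hs', ?_⟩
  ext1 a
  refine hext _ _ ?_
  change η.Nmap f (s (η.qRel f a)).1 = _
  rw [hs']
  exact (η.Nmap_t_apply f a).symm

/-- S13817 -/
theorem isIntegral_qRel_and_comap_bijective (hA : (minimalPrimes A).Finite)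
    (hs : Function.Surjective (PrimeSpectrum.comap f)) :
    (η.qRel f).IsIntegral ∧ Function.Bijective (PrimeSpectrum.comap (η.qRel f)) := by
  obtain ⟨s, hs1, hs2⟩ := exists_relToM η f hs
  have hq := isIntegral_q η hA
  have hsint : s.IsIntegral := RingHom.IsIntegral.tower_top (η.qRel f) s (by rw [hs2]; exact hq)
  have hker : ∀ b : η.rel f, s b = 0 → IsNilpotent b := by
    intro b hb
    have h1 := hs1 b
    rw [hb] at h1
    have h2 : η.t B b.1 = 0 := by rw [← h1]; exact map_zero _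
    rw [t_eq_zero_iff] at h2
    obtain ⟨n, hn⟩ := h2
    exact ⟨n, Subtype.ext hn⟩
  refine ⟨fun b => ?_, ?_, fun p => ?_⟩
  · obtain ⟨P, hP, hP0⟩ := hq (s b)
    have h1 : s (P.eval₂ (η.qRel f) b) = 0 := by
      rw [Polynomial.hom_eval₂, hs2, hP0]
    obtain ⟨n, hn⟩ := hker _ h1
    exact ⟨P ^ n, hP.pow n, by rw [Polynomial.eval₂_pow, hn]⟩
  · intro Q₁ Q₂ h
    have hk : ∀ Q : PrimeSpectrum (η.rel f), RingHom.ker s ≤ Q.asIdeal := fun Q b hb =>
      Q.2.mem_of_pow_mem (hker b hb).choose (by rw [(hker b hb).choose_spec]; exact zero_mem _)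
    obtain ⟨Q₁', rfl⟩ := exists_comap_eq s hsint Q₁ (hk Q₁)
    obtain ⟨Q₂', rfl⟩ := exists_comap_eq s hsint Q₂ (hk Q₂)
    congr 1
    apply (comap_q_bijective η hA).1
    rw [← hs2]
    exact h
  · obtain ⟨Q, hQ⟩ := hs p
    exact ⟨PrimeSpectrum.comap (η.rel f).subtype Q, hQ⟩

end rel

end K797.EtaFin
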