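import Groth.Agent.EtaPt.K797.Dom
import Mathlib.RingTheory.Localization.Integral
import Mathlib.RingTheory.Algebraic.Integral

/-! The integral closure of a ring in the field `F(k(p))`, and the components of elements of `M_η(A)`. -/

set_option autoImplicit false
universe u
open EtaPt K797.EtaBase K797.EtaVal K797.EtaNbij K797.EtaDom

namespace K797.EtaIntCl

section general

variable {A : Type*} [CommRing A] {E : Type*} [Field E] (φ : A →+* E)

/-- the integral closure in `E` of the image of `φ : A → E` -/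
abbrev Ic : Type _ := integralClosure φ.range E

/-- the corestriction `A → Ic φ` -/
noncomputable def toIc : A →+* Ic φ := (algebraMap φ.range (Ic φ)).comp φ.rangeRestrict

theorem toIc_coe (a : A) : ((toIc φ a : Ic φ) : E) = φ a := rfl

theorem algebraMap_comp_toIc : (algebraMap (Ic φ) E).comp (toIc φ) = φ := rfl

theorem isIntegral_toIc : (toIc φ).IsIntegral :=
  RingHom.IsIntegral.trans _ _ (RingHom.isIntegral_of_surjective _ φ.rangeRestrict_surjective)
    (algebraMap_isIntegral_iff.mpr inferInstance)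

/-- being integral over `φ.range` is being integral through `φ` -/
theorem isIntegral_range_iff (y : E) : IsIntegral φ.range y ↔ φ.IsIntegralElem y := by
  constructor
  · intro h
    obtain ⟨P, hP, hP0⟩ := isIntegral_toIc φ ⟨y, h⟩
    refine ⟨P, hP, ?_⟩
    have := congrArg (algebraMap (Ic φ) E) hP0
    rw [Polynomial.hom_eval₂, map_zero, algebraMap_comp_toIc] at this
    exact this
  · rintro ⟨P, hP, hP0⟩
    refine ⟨P.map φ.rangeRestrict, hP.map _, ?_⟩
    rw [Polynomial.eval₂_map]
    exact hP0

theorem isFractionRing_Ic [Algebra.IsAlgebraic φ.range E] : IsFractionRing (Ic φ) E :=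
  integralClosure.isFractionRing_of_algebraic fun _ hx => Subtype.ext hx

theorem isIntegrallyClosed_Ic [Algebra.IsAlgebraic φ.range E] : IsIntegrallyClosed (Ic φ) := by
  have := isFractionRing_Ic φ
  exact (isIntegrallyClosed_iff_isIntegrallyClosedIn E).mpr inferInstance

theorem ker_toIc : RingHom.ker (toIc φ) = RingHom.ker φ := by
  ext a
  rw [RingHom.mem_ker, RingHom.mem_ker, ← toIc_coe φ a]
  exact ⟨fun h => by rw [h]; rfl, fun h => Subtype.ext h⟩

/-- primes over primes containing the kernel of an integral ring map -/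
theorem exists_comap_eq {B C : Type*} [CommRing B] [CommRing C] (f : B →+* C) (hf : f.IsIntegral)
    (q : PrimeSpectrum B) (h : RingHom.ker f ≤ q.asIdeal) : ∃ Q : PrimeSpectrum C, PrimeSpectrum.comap f Q = q := by
  let _ := f.toAlgebra
  have : Algebra.IsIntegral B C := ⟨hf⟩
  obtain ⟨Q, -, hQ, hQ'⟩ := Ideal.exists_ideal_over_prime_of_isIntegral q.asIdeal (⊥ : Ideal C) h
  exact ⟨⟨Q, hQ⟩, PrimeSpectrum.ext hQ'⟩

theorem isAlgebraic_range_residue (p : PrimeSpectrum A) :
    ∀ z : p.asIdeal.ResidueField, IsAlgebraic (algebraMap A p.asIdeal.ResidueField).range z := by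
  intro z
  obtain ⟨a, b, hb, rfl⟩ := IsFractionRing.div_surjective (A := A ⧸ p.asIdeal) z
  obtain ⟨a, rfl⟩ := Ideal.Quotient.mk_surjective a
  obtain ⟨b, rfl⟩ := Ideal.Quotient.mk_surjective b
  rw [Ideal.algebraMap_quotient_residueField_mk, Ideal.algebraMap_quotient_residueField_mk, div_eq_mul_inv]
  have h : ∀ c : A, IsAlgebraic (algebraMap A p.asIdeal.ResidueField).range
      (algebraMap A p.asIdeal.ResidueField c) := fun c =>
    isAlgebraic_algebraMap (⟨_, c, rfl⟩ : (algebraMap A p.asIdeal.ResidueField).range)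
  exact (h a).mul (h b).inv

end general

variable (η : FieldEndo.{u}) {A : Type u} [CommRing A]

/-- the map `A → F(k(p))` -/
noncomputable abbrev phi (p : PrimeSpectrum A) : A →+* η.obj p.asIdeal.ResidueField :=
  (η.eta p.asIdeal.ResidueField).comp (algebraMap A p.asIdeal.ResidueField)

theorem pt_phi (p : PrimeSpectrum A) : pt (phi η p) = p := by
  rw [pt_comp, pt_algebraMap]

theorem isAlgebraic_phi (p : PrimeSpectrum A) :
    Algebra.IsAlgebraic (phi η p).range (η.obj p.asIdeal.ResidueField) := by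
  constructor
  intro y
  obtain ⟨n, z, hz⟩ := exists_eta_eq_pow η _ y
  refine IsAlgebraic.of_pow (n := ringExpChar p.asIdeal.ResidueField ^ n)
    (pow_pos (expChar_pos p.asIdeal.ResidueField _) n) ?_
  rw [← hz]
  obtain ⟨a, b, hb, rfl⟩ := IsFractionRing.div_surjective (A := A ⧸ p.asIdeal) z
  obtain ⟨a, rfl⟩ := Ideal.Quotient.mk_surjective a
  obtain ⟨b, rfl⟩ := Ideal.Quotient.mk_surjective b
  rw [Ideal.algebraMap_quotient_residueField_mk, Ideal.algebraMap_quotient_residueField_mk, div_eq_mul_inv,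
    map_mul, map_inv₀]
  have h : ∀ c : A, IsAlgebraic (phi η p).range (η.eta _ (algebraMap A p.asIdeal.ResidueField c)) := fun c =>
    isAlgebraic_algebraMap (⟨_, c, rfl⟩ : (phi η p).range)
  exact (h a).mul (h b).inv

/-- The image of `x ∈ M A` in `N B`, `B = Ic (phi p)`, is the diagonal image of the component `x p ∈ B`. -/
theorem exists_component (p : PrimeSpectrum A) {x : η.N A} (hx : x ∈ η.M A) :
    ∃ b : Ic (phi η p), (b : η.obj p.asIdeal.ResidueField) = x p ∧
      η.Nmap (toIc (phi η p)) x = η.t (Ic (phi η p)) b := by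
  have := isAlgebraic_phi η p
  have := isFractionRing_Ic (phi η p)
  have := isIntegrallyClosed_Ic (phi η p)
  have hV : η.InV (Ic (phi η p)) := (inV_iff η _ (η.obj p.asIdeal.ResidueField)).mpr (bijective_eta_obj η _)
  obtain ⟨b, hb⟩ := exists_eq_t η hV (Nmap_mem_M η (toIc (phi η p)) hx)
  refine ⟨b, ?_, hb⟩
  apply (bijective_eta_obj η p.asIdeal.ResidueField).1
  have h1 := congrArg (ev η (algebraMap (Ic (phi η p)) (η.obj p.asIdeal.ResidueField))) hb
  rw [ev_t, ev_Nmap, algebraMap_comp_toIc, ev_comp, ev_residue, ← eta_obj] at h1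
  exact h1.symm

theorem isIntegral_component (p : PrimeSpectrum A) {x : η.N A} (hx : x ∈ η.M A) :
    (phi η p).IsIntegralElem (x p) := by
  obtain ⟨b, hb, -⟩ := exists_component η p hx
  rw [← hb]
  exact (isIntegral_range_iff (phi η p) _).mp b.2

/-- the component map `M A → Ic (phi p)` -/
noncomputable def comp (p : PrimeSpectrum A) : η.M A →+* Ic (phi η p) :=
  ((Pi.evalRingHom (fun p : PrimeSpectrum A => η.obj p.asIdeal.ResidueField) p).comp
    (η.M A).subtype).codRestrict (integralClosure (phi η p).range _) fun x =>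
      (isIntegral_range_iff (phi η p) _).mpr (isIntegral_component η p x.2)

theorem comp_coe (p : PrimeSpectrum A) (x : η.M A) : (comp η p x : η.obj p.asIdeal.ResidueField) = x.1 p := rfl

theorem Nmap_toIc (p : PrimeSpectrum A) (x : η.M A) :
    η.Nmap (toIc (phi η p)) x.1 = η.t (Ic (phi η p)) (comp η p x) := by
  obtain ⟨b, hb, hb'⟩ := exists_component η p x.2
  rw [hb']
  congr 1
  exact Subtype.ext hb

theorem comp_q (p : PrimeSpectrum A) (a : A) : comp η p (η.q A a) = toIc (phi η p) a := rfl

theorem comp_comp_q (p : PrimeSpectrum A) : (comp η p).comp (η.q A) = toIc (phi η p) := rfl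

theorem isIntegral_comp (p : PrimeSpectrum A) : (comp η p).IsIntegral :=
  RingHom.IsIntegral.tower_top (η.q A) _ (by rw [comp_comp_q]; exact isIntegral_toIc _)

/-- evaluation of elements of `M A` at points of `Ic (phi p)` -/
theorem ev_comp_toIc (p : PrimeSpectrum A) (x : η.M A) {E : Type u} [Field E] (ψ : Ic (phi η p) →+* E) :
    ev η (ψ.comp (toIc (phi η p))) x.1 = η.eta E (ψ (comp η p x)) := by
  rw [← ev_Nmap, Nmap_toIc, ev_t]

/-- a prime containing `p` is below a point of `Ic (phi p)` -/
theorem exists_point {p q : PrimeSpectrum A} (h : p ≤ q) :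
    ∃ Q : PrimeSpectrum (Ic (phi η p)), PrimeSpectrum.comap (toIc (phi η p)) Q = q :=
  exists_comap_eq _ (isIntegral_toIc _) q (by
    rw [ker_toIc, ← pt_asIdeal, pt_phi]; exact h)

/-- the evaluation `M A → F(k(p))` -/
noncomputable def evM (p : PrimeSpectrum A) : η.M A →+* η.obj p.asIdeal.ResidueField :=
  (Pi.evalRingHom (fun p : PrimeSpectrum A => η.obj p.asIdeal.ResidueField) p).comp (η.M A).subtype

theorem evM_apply (p : PrimeSpectrum A) (x : η.M A) : evM η p x = x.1 p := rfl

theorem evM_comp_q (p : PrimeSpectrum A) : (evM η p).comp (η.q A) = phi η p := rfl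

theorem comap_q_pt_evM (p : PrimeSpectrum A) : PrimeSpectrum.comap (η.q A) (pt (evM η p)) = p := by
  rw [← pt_comp', evM_comp_q, pt_phi]

theorem mem_pt_evM (p : PrimeSpectrum A) (x : η.M A) : x ∈ (pt (evM η p)).asIdeal ↔ x.1 p = 0 := Iff.rfl

/-- A prime of `M A` containing the kernel of the evaluation at `p` is the kernel of the evaluation at the
prime of `A` below it. -/
theorem eq_pt_evM_of_le (p : PrimeSpectrum A) (Q : PrimeSpectrum (η.M A))
    (h : (pt (evM η p)).asIdeal ≤ Q.asIdeal) : Q = pt (evM η (PrimeSpectrum.comap (η.q A) Q)) := by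
  obtain ⟨Q', rfl⟩ := exists_comap_eq (comp η p) (isIntegral_comp η p) Q (by
    intro x hx
    refine h ?_
    rw [mem_pt_evM, ← comp_coe, (RingHom.mem_ker).mp hx]
    rfl)
  let ψ := algebraMap (Ic (phi η p)) Q'.asIdeal.ResidueField
  have hP : PrimeSpectrum.comap (η.q A) (PrimeSpectrum.comap (comp η p) Q') = pt (ψ.comp (toIc (phi η p))) := by
    rw [pt_comp', pt_algebraMap]; rfl
  ext x
  rw [mem_pt_evM, hP, ← ev_eq_zero_iff, ev_comp_toIc, map_eq_zero]
  change comp η p x ∈ Q'.asIdeal ↔ _
  rw [← Ideal.algebraMap_residueField_eq_zero]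

/-- If `x ∈ M A` vanishes at `p` then it vanishes at every prime containing `p`. -/
theorem eq_zero_of_le {p q : PrimeSpectrum A} (h : p ≤ q) (x : η.M A) (hx : x.1 p = 0) : x.1 q = 0 := by
  obtain ⟨Q, rfl⟩ := exists_point η h
  have hP : PrimeSpectrum.comap (toIc (phi η p)) Q =
      pt ((algebraMap (Ic (phi η p)) Q.asIdeal.ResidueField).comp (toIc (phi η p))) := by
    rw [pt_comp', pt_algebraMap]
  rw [hP, ← ev_eq_zero_iff, ev_comp_toIc, map_eq_zero]
  have : comp η p x = 0 := Subtype.ext hx
  rw [this, map_zero]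

end K797.EtaIntCl
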