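import Groth.Agent.EtaPt.K797.Val

/-! Ring maps `f` with `N_η(f)` bijective (namespace `EtaPt`). -/

set_option autoImplicit false
universe u
open EtaPt K797.EtaBase K797.EtaVal

namespace K797.EtaNbij

variable (η : FieldEndo.{u}) {A B : Type u} [CommRing A] [CommRing B]

theorem comap_surjective_of_Nmap_injective (f : A →+* B) (h : Function.Injective (η.Nmap f)) :
    Function.Surjective (PrimeSpectrum.comap f) := by
  classical
  intro p
  by_contra hp
  have hx : η.Nmap f (Pi.single p 1) = η.Nmap f 0 := by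
    funext q
    change η.map _ ((Pi.single p 1 : η.N A) (PrimeSpectrum.comap f q)) = η.map _ 0
    rw [Pi.single_eq_of_ne (fun h' => hp ⟨q, h'⟩)]
  have h1 := congrFun (h hx) p
  rw [Pi.single_eq_same] at h1
  exact one_ne_zero h1

theorem comap_injective_of_Nmap_surjective (f : A →+* B) (h : Function.Surjective (η.Nmap f)) :
    Function.Injective (PrimeSpectrum.comap f) := by
  classical
  intro q₁ q₂ hq
  by_contra hne
  obtain ⟨x, hx⟩ := h (Pi.single q₁ 1)
  have h1 : ev η ((algebraMap B q₁.asIdeal.ResidueField).comp f) x = 1 := by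
    rw [← Nmap_apply, hx, Pi.single_eq_same]
  have h2 : ev η ((algebraMap B q₂.asIdeal.ResidueField).comp f) x = 0 := by
    rw [← Nmap_apply, hx, Pi.single_eq_of_ne (Ne.symm hne)]
  rw [ev_eq_zero_iff, pt_comp', pt_algebraMap, ← hq] at h2
  have h3 : ev η ((algebraMap B q₁.asIdeal.ResidueField).comp f) x = 0 := by
    rw [ev_eq_zero_iff, pt_comp', pt_algebraMap]
    exact h2
  rw [h1] at h3
  exact one_ne_zero h3

theorem map_surjective_of_Nmap_surjective (f : A →+* B) (h : Function.Surjective (η.Nmap f))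
    (q : PrimeSpectrum B) : Function.Surjective
      (η.map (Ideal.ResidueField.map (PrimeSpectrum.comap f q).asIdeal q.asIdeal f rfl)) := by
  classical
  intro y
  obtain ⟨x, hx⟩ := h (Pi.single q y)
  refine ⟨x (PrimeSpectrum.comap f q), ?_⟩
  have := congrFun hx q
  rwa [Pi.single_eq_same] at this

/-- `N_η(f)` is bijective iff `Spec f` is bijective and the maps `F(k(f⁻¹ q)) → F(k(q))` are bijective. -/
theorem bijective_Nmap_iff (f : A →+* B) : Function.Bijective (η.Nmap f) ↔
    Function.Bijective (PrimeSpectrum.comap f) ∧ ∀ q : PrimeSpectrum B, Function.Bijective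
      (η.map (Ideal.ResidueField.map (PrimeSpectrum.comap f q).asIdeal q.asIdeal f rfl)) := by
  constructor
  · intro h
    exact ⟨⟨comap_injective_of_Nmap_surjective η f h.2, comap_surjective_of_Nmap_injective η f h.1⟩,
      fun q => ⟨RingHom.injective _, map_surjective_of_Nmap_surjective η f h.2 q⟩⟩
  · rintro ⟨hc, hb⟩
    refine ⟨Nmap_injective_of_surjective η f hc.2, fun y => ?_⟩
    have key : ∀ p : PrimeSpectrum A, ∃ z : η.obj p.asIdeal.ResidueField,
        ∀ (q : PrimeSpectrum B) (h : PrimeSpectrum.comap f q = p),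
          η.map (Ideal.ResidueField.map p.asIdeal q.asIdeal f (by rw [← h]; rfl)) z = y q := by
      intro p
      obtain ⟨q, rfl⟩ := hc.2 p
      obtain ⟨z, hz⟩ := (hb q).2 (y q)
      refine ⟨z, fun q' hq' => ?_⟩
      obtain rfl := hc.1 hq'
      exact hz
    choose x hx using key
    exact ⟨x, funext fun q => hx _ q rfl⟩

/-- S13812 -/
theorem bijOn_Nmap_M (f : A →+* B) (hf : f.IsIntegral) (hN : Function.Bijective (η.Nmap f)) :
    Set.BijOn (η.Nmap f) (η.M A) (η.M B) := by
  have hs := comap_surjective_of_Nmap_injective η f hN.1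
  refine ⟨fun x hx => Nmap_mem_M η f hx, hN.1.injOn, fun y hy => ?_⟩
  obtain ⟨x, rfl⟩ := hN.2 y
  exact ⟨x, (mem_M_iff_Nmap_mem_M η f hf hs x).mpr hy, rfl⟩

/-- A map `A → K` to a field at which `η` is bijective factors through `f : A → B` when `N_η(f)` is bijective. -/
theorem exists_lift_field (f : A →+* B) (hN : Function.Bijective (η.Nmap f)) (K : Type u) [Field K]
    (hK : Function.Bijective (η.eta K)) (φ : A →+* K) : ∃ ψ : B →+* K, ψ.comp f = φ := by
  obtain ⟨hc, hb⟩ := (bijective_Nmap_iff η f).mp hN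
  obtain ⟨q, hq⟩ := hc.2 (pt φ)
  -- the residue field map
  have hle : ∀ a : A, a ∈ (PrimeSpectrum.comap f q).asIdeal ↔ φ a = 0 := by
    intro a; rw [hq]; rfl
  let κ : (PrimeSpectrum.comap f q).asIdeal.ResidueField →+* K :=
    Ideal.ResidueField.lift _ φ (fun a ha => (hle a).mp ha)
      (fun a ha => isUnit_iff_ne_zero.mpr fun h => ha ((hle a).mpr h))
  have hκ : ∀ a, κ (algebraMap A _ a) = φ a := fun a => Ideal.ResidueField.lift_algebraMap _ _ _ _ _
  let e := RingEquiv.ofBijective _ (hb q)
  let eK := RingEquiv.ofBijective _ hK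
  let ψ : B →+* K := (eK.symm.toRingHom.comp (η.map κ)).comp
    ((e.symm.toRingHom.comp (η.eta _)).comp (algebraMap B q.asIdeal.ResidueField))
  refine ⟨ψ, ?_⟩
  ext a
  change eK.symm (η.map κ (e.symm (η.eta _ (algebraMap B _ (f a))))) = φ a
  rw [RingEquiv.symm_apply_eq]
  change η.map κ (e.symm (η.eta _ (algebraMap B _ (f a)))) = η.eta K (φ a)
  have h1 : e.symm (η.eta _ (algebraMap B _ (f a))) = η.eta _ (algebraMap A _ a) := by
    rw [RingEquiv.symm_apply_eq]
    change _ = η.map _ (η.eta _ (algebraMap A _ a))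
    rw [eta_nat]
    congr 1
    exact (Ideal.ResidueField.map_algebraMap _ _ _ _ _).symm
  rw [h1, eta_nat, hκ]

/-- S13811 -/
theorem exists_factor (f : A →+* B)
    (hf : f.IsIntegral) (hN : Function.Bijective (η.Nmap f))
    (R : Type u) [CommRing R] [IsDomain R] [IsIntegrallyClosed R] (hR : η.InV R) (g : A →+* R) :
    ∃ g' : B →+* R, g'.comp f = g := by
  let K := FractionRing R
  obtain ⟨ψ, hψ⟩ := exists_lift_field η f hN K hR ((algebraMap R K).comp g)
  have hinj := IsFractionRing.injective R K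
  have hmem : ∀ b : B, ψ b ∈ (algebraMap R K).range := by
    intro b
    have hint : IsIntegral R (ψ b) := by
      obtain ⟨q, hq, hq0⟩ := hf b
      refine ⟨q.map g, hq.map _, ?_⟩
      rw [Polynomial.eval₂_map, ← hψ, ← Polynomial.hom_eval₂, hq0, map_zero]
    obtain ⟨y, hy⟩ := (IsIntegrallyClosed.isIntegral_iff (R := R)).mp hint
    exact ⟨y, hy⟩
  let e : R ≃+* (algebraMap R K).range := RingEquiv.ofBijective (algebraMap R K).rangeRestrict
    ⟨fun a b h => hinj (congrArg Subtype.val h), (algebraMap R K).rangeRestrict_surjective⟩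
  have he : ∀ r, ((e r : (algebraMap R K).range) : K) = algebraMap R K r := fun r => rfl
  refine ⟨e.symm.toRingHom.comp (ψ.codRestrict _ hmem), ?_⟩
  ext a
  change e.symm (ψ.codRestrict _ hmem (f a)) = g a
  rw [RingEquiv.symm_apply_eq]
  apply Subtype.ext
  rw [he]
  exact congrArg (fun h => h a) (congrArg DFunLike.coe hψ)

end K797.EtaNbij
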