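import Groth.Agent.EtaPt.K797.Base

/-! `M_η` of a product (namespace `EtaPt`). -/

set_option autoImplicit false
universe u
open EtaPt K797.EtaBase

namespace K797.EtaProd

variable (η : FieldEndo.{u}) {A B : Type u} [CommRing A] [CommRing B]

/-- A ring map from `A × B` killing `(0, 1)` factors through `A`. -/
theorem exists_fst_factor {R : Type*} [CommRing R] (g : A × B →+* R) (h : g (0, 1) = 0) :
    ∃ g' : A →+* R, g = g'.comp (RingHom.fst A B) := by
  have h1 : g (1, 0) = 1 := by
    have : g (1, 0) + g (0, 1) = 1 := by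
      rw [← map_add, ← map_one g]; congr 1; ext <;> simp
    rwa [h, add_zero] at this
  refine ⟨{ toFun := fun a => g (a, 0), map_one' := h1, map_zero' := ?_, map_mul' := ?_, map_add' := ?_ }, ?_⟩
  · intro a b; rw [← map_mul]; simp
  · exact map_zero g
  · intro a b; rw [← map_add]; simp
  · ext ⟨a, b⟩
    change g (a, b) = g (a, 0)
    have : ((a, b) : A × B) = (a, 0) + (0, b) * (0, 1) := by simp
    rw [this, map_add, map_mul, h, mul_zero, add_zero]

theorem exists_snd_factor {R : Type*} [CommRing R] (g : A × B →+* R) (h : g (1, 0) = 0) :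
    ∃ g' : B →+* R, g = g'.comp (RingHom.snd A B) := by
  have h1 : g (0, 1) = 1 := by
    have : g (1, 0) + g (0, 1) = 1 := by
      rw [← map_add, ← map_one g]; congr 1; ext <;> simp
    rwa [h, zero_add] at this
  refine ⟨{ toFun := fun a => g (0, a), map_one' := h1, map_zero' := ?_, map_mul' := ?_, map_add' := ?_ }, ?_⟩
  · intro a b; rw [← map_mul]; simp
  · exact map_zero g
  · intro a b; rw [← map_add]; simp
  · ext ⟨a, b⟩
    change g (a, b) = g (0, b)
    have : ((a, b) : A × B) = (0, b) + (a, 0) * (1, 0) := by simp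
    rw [this, map_add, map_mul, h, mul_zero, add_zero]

theorem factor {R : Type*} [CommRing R] [IsDomain R] (g : A × B →+* R) :
    (∃ g' : A →+* R, g = g'.comp (RingHom.fst A B)) ∨ (∃ g' : B →+* R, g = g'.comp (RingHom.snd A B)) := by
  have h : g (1, 0) * g (0, 1) = 0 := by
    rw [← map_mul, ← map_zero g]; congr 1; ext <;> simp
  rcases mul_eq_zero.mp h with h | h
  · exact Or.inr (exists_snd_factor g h)
  · exact Or.inl (exists_fst_factor g h)

theorem not_both {E : Type*} [CommRing E] [Nontrivial E] (g₁ : A →+* E) (g₂ : B →+* E)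
    (h : g₁.comp (RingHom.fst A B) = g₂.comp (RingHom.snd A B)) : False := by
  have := congrArg (fun h => h (1, 0)) (congrArg DFunLike.coe h)
  simp at this

/-- an element of `N (A × B)` with given components -/
theorem exists_pair (x : η.N A) (y : η.N B) : ∃ z : η.N (A × B),
    η.Nmap (RingHom.fst A B) z = x ∧ η.Nmap (RingHom.snd A B) z = y := by
  have key : ∀ p : PrimeSpectrum (A × B), ∃ z : η.obj p.asIdeal.ResidueField,
      (∀ g : A →+* p.asIdeal.ResidueField, algebraMap (A × B) _ = g.comp (RingHom.fst A B) → z = ev η g x) ∧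
      (∀ g : B →+* p.asIdeal.ResidueField, algebraMap (A × B) _ = g.comp (RingHom.snd A B) → z = ev η g y) := by
    intro p
    rcases factor (algebraMap (A × B) p.asIdeal.ResidueField) with ⟨g, hg⟩ | ⟨g, hg⟩
    · refine ⟨ev η g x, fun g' hg' => ?_, fun g' hg' => ?_⟩
      · have : g = g' := by
          ext a
          have := congrArg (fun h => h (a, 0)) (congrArg DFunLike.coe (hg.symm.trans hg'))
          simpa using this
        rw [this]
      · exact (not_both g g' (hg.symm.trans hg')).elim
    · refine ⟨ev η g y, fun g' hg' => ?_, fun g' hg' => ?_⟩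
      · exact (not_both g' g (hg'.symm.trans hg)).elim
      · have : g = g' := by
          ext a
          have := congrArg (fun h => h (0, a)) (congrArg DFunLike.coe (hg.symm.trans hg'))
          simpa using this
        rw [this]
  choose z hz₁ hz₂ using key
  refine ⟨z, ?_, ?_⟩
  · refine ev_ext η fun p => ?_
    rw [ev_Nmap]
    let P := PrimeSpectrum.comap (RingHom.fst A B) p
    let κ : P.asIdeal.ResidueField →+* p.asIdeal.ResidueField :=
      Ideal.ResidueField.map P.asIdeal p.asIdeal (RingHom.fst A B) rfl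
    have hκ : κ.comp (algebraMap (A × B) _) = (algebraMap A _).comp (RingHom.fst A B) :=
      RingHom.ext fun a => Ideal.ResidueField.map_algebraMap _ _ _ _ _
    have h0 : algebraMap (A × B) P.asIdeal.ResidueField (0, 1) = 0 := by
      apply κ.injective
      have := congrArg (fun h => h (0, 1)) (congrArg DFunLike.coe hκ)
      simpa using this
    obtain ⟨g, hg⟩ := exists_fst_factor _ h0
    rw [ev_of_comp η _ P κ hκ, hz₁ P g hg, ← ev_comp]
    congr 2
    ext a
    have := congrArg (fun h => h (a, 0)) (congrArg DFunLike.coe hκ)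
    rw [hg] at this
    simpa using this
  · refine ev_ext η fun p => ?_
    rw [ev_Nmap]
    let P := PrimeSpectrum.comap (RingHom.snd A B) p
    let κ : P.asIdeal.ResidueField →+* p.asIdeal.ResidueField :=
      Ideal.ResidueField.map P.asIdeal p.asIdeal (RingHom.snd A B) rfl
    have hκ : κ.comp (algebraMap (A × B) _) = (algebraMap B _).comp (RingHom.snd A B) :=
      RingHom.ext fun a => Ideal.ResidueField.map_algebraMap _ _ _ _ _
    have h0 : algebraMap (A × B) P.asIdeal.ResidueField (1, 0) = 0 := by
      apply κ.injective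
      have := congrArg (fun h => h (1, 0)) (congrArg DFunLike.coe hκ)
      simpa using this
    obtain ⟨g, hg⟩ := exists_snd_factor _ h0
    rw [ev_of_comp η _ P κ hκ, hz₂ P g hg, ← ev_comp]
    congr 2
    ext a
    have := congrArg (fun h => h (0, a)) (congrArg DFunLike.coe hκ)
    rw [hg] at this
    simpa using this

/-- S13810 -/
theorem bijOn_M_prod :
    Set.BijOn (fun x : η.N (A × B) => (η.Nmap (RingHom.fst A B) x, η.Nmap (RingHom.snd A B) x))
      (η.M (A × B)) ((η.M A : Set (η.N A)) ×ˢ (η.M B : Set (η.N B))) := by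
  refine ⟨fun x hx => ⟨Nmap_mem_M η _ hx, Nmap_mem_M η _ hx⟩, fun x _ y _ h => ?_, ?_⟩
  · have h1 : η.Nmap (RingHom.fst A B) x = η.Nmap (RingHom.fst A B) y := congrArg Prod.fst h
    have h2 : η.Nmap (RingHom.snd A B) x = η.Nmap (RingHom.snd A B) y := congrArg Prod.snd h
    refine ev_ext η fun p => ?_
    rcases factor (algebraMap (A × B) p.asIdeal.ResidueField) with ⟨g, hg⟩ | ⟨g, hg⟩
    · rw [hg, ← ev_Nmap, ← ev_Nmap, h1]
    · rw [hg, ← ev_Nmap, ← ev_Nmap, h2]
  · rintro ⟨x, y⟩ ⟨hx, hy⟩
    obtain ⟨z, hz₁, hz₂⟩ := exists_pair η x y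
    refine ⟨z, fun R _ _ _ hR g => ?_, Prod.ext hz₁ hz₂⟩
    rcases factor g with ⟨g', rfl⟩ | ⟨g', rfl⟩
    · rw [Nmap_comp, hz₁]; exact hx R hR g'
    · rw [Nmap_comp, hz₂]; exact hy R hR g'

end K797.EtaProd
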