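import Groth.Agent.EtaPt.K797.Fin
import Groth.Prelude.Def_HTop2
import Groth.Agent.FlatA.UnivHomeo

/-! `η = id`: universal homeomorphisms with trivial residue field extensions. -/

set_option autoImplicit false
universe u
open EtaPt K797.EtaBase K797.EtaVal K797.EtaNbij K797.EtaDom K797.EtaIntCl K797.EtaFin
open AlgebraicGeometry CategoryTheory Limits

namespace K797.EtaSpecRes

variable {R S : Type u} [CommRing R] [CommRing S] (f : R →+* S)

/-- the residue field map of `Spec f` is the algebraic one -/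
theorem residueFieldMap_key (x : Spec (.of S)) :
    (Scheme.Spec.residueFieldIso (.of R) (Spec.map (CommRingCat.ofHom f) x)).inv ≫
      (Spec.map (CommRingCat.ofHom f)).residueFieldMap x =
    CommRingCat.ofHom (Ideal.ResidueField.map (PrimeSpectrum.comap f x).asIdeal x.asIdeal f rfl) ≫
      (Scheme.Spec.residueFieldIso (.of S) x).inv := by
  let φ : CommRingCat.of R ⟶ .of S := CommRingCat.ofHom f
  let y : Spec (.of R) := Spec.map φ x
  let ψ : CommRingCat.of y.asIdeal.ResidueField ⟶ CommRingCat.of x.asIdeal.ResidueField :=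
    CommRingCat.ofHom (Ideal.ResidueField.map (PrimeSpectrum.comap f x).asIdeal x.asIdeal f rfl)
  change (Scheme.Spec.residueFieldIso (.of R) y).inv ≫ (Spec.map φ).residueFieldMap x =
      ψ ≫ (Scheme.Spec.residueFieldIso (.of S) x).inv
  have h1 := Scheme.Hom.SpecMap_residueFieldMap_fromSpecResidueField (Spec.map φ) x
  have hmono : Mono (Spec.map (CommRingCat.ofHom
      (algebraMap R y.asIdeal.ResidueField))) := by
    have h2 := Scheme.Spec.map_residueFieldIso_inv_eq_fromSpecResidueField (.of R) y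
    rw [← (IsIso.inv_comp_eq _).mpr h2.symm]
    infer_instance
  rw [← Spec.map_inj, ← cancel_mono (Spec.map (CommRingCat.ofHom
      (algebraMap R y.asIdeal.ResidueField)))]
  rw [Spec.map_comp, Category.assoc]
  erw [Scheme.Spec.map_residueFieldIso_inv_eq_fromSpecResidueField (.of R) y]
  rw [h1, Spec.map_comp, Category.assoc, ← Spec.map_comp,
    ← Scheme.Spec.map_residueFieldIso_inv_eq_fromSpecResidueField, Category.assoc, ← Spec.map_comp]
  congr 2
  ext a
  exact (Ideal.ResidueField.map_algebraMap _ _ _ _ _).symm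

/-- Isomorphism on residue fields, algebraically. -/
theorem residueFieldsIso_iff : HTop.ResidueFieldsIso (Spec.map (CommRingCat.ofHom f)) ↔
    ∀ q : PrimeSpectrum S, Function.Bijective
      (Ideal.ResidueField.map (PrimeSpectrum.comap f q).asIdeal q.asIdeal f rfl) := by
  refine forall_congr' fun x => ?_
  have h := residueFieldMap_key f x
  have h1 : IsIso ((Spec.map (CommRingCat.ofHom f)).residueFieldMap x) ↔
      IsIso (CommRingCat.ofHom (Ideal.ResidueField.map (PrimeSpectrum.comap f x).asIdeal x.asIdeal f rfl)) := by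
    constructor
    · intro h2
      have : IsIso (CommRingCat.ofHom (Ideal.ResidueField.map (PrimeSpectrum.comap f x).asIdeal x.asIdeal f rfl) ≫
          (Scheme.Spec.residueFieldIso (.of S) x).inv) := by
        rw [← h]
        exact @IsIso.comp_isIso _ _ _ _ _ _ _ inferInstance h2
      exact IsIso.of_isIso_comp_right _ (Scheme.Spec.residueFieldIso (.of S) x).inv
    · intro h2
      have : IsIso ((Scheme.Spec.residueFieldIso (.of R) (Spec.map (CommRingCat.ofHom f) x)).inv ≫
          (Spec.map (CommRingCat.ofHom f)).residueFieldMap x) := by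
        rw [h]
        exact @IsIso.comp_isIso _ _ _ _ _ _ _ h2 inferInstance
      exact IsIso.of_isIso_comp_left (Scheme.Spec.residueFieldIso (.of R) _).inv _
  rw [h1]
  exact ConcreteCategory.isIso_iff_bijective _

/-- for `η = id` -/
theorem bijective_Nmap_ident_iff : Function.Bijective (FieldEndo.ident.{u}.Nmap f) ↔
    Function.Bijective (PrimeSpectrum.comap f) ∧ HTop.ResidueFieldsIso (Spec.map (CommRingCat.ofHom f)) := by
  rw [bijective_Nmap_iff, residueFieldsIso_iff]
  rfl

/-- An integral ring map with `N_id` bijective gives a universal homeomorphism with trivial residue extensions. -/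
theorem isUnivHomeo_of (hf : f.IsIntegral) (hN : Function.Bijective (FieldEndo.ident.{u}.Nmap f)) :
    FlatMor.IsUnivHomeo (Spec.map (CommRingCat.ofHom f)) ∧
      HTop.ResidueFieldsIso (Spec.map (CommRingCat.ofHom f)) := by
  obtain ⟨hc, hr⟩ := (bijective_Nmap_ident_iff f).mp hN
  refine ⟨(Groth.Agent.FlatA.UnivHomeo.isUnivHomeo_iff _).mpr ⟨?_, ?_, ?_⟩, hr⟩
  · rw [IsIntegralHom.SpecMap_iff]
    exact hf
  · refine ((tfae_universallyInjective (Spec.map (CommRingCat.ofHom f))).out 0 1).2 ?_
    intro K _ g₁ g₂ h12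
    obtain ⟨g₁, rfl⟩ := Spec.map_surjective g₁
    obtain ⟨g₂, rfl⟩ := Spec.map_surjective g₂
    congr 1
    dsimp only at h12
    rw [← Spec.map_comp, ← Spec.map_comp] at h12
    have h3 := Spec.map_injective h12
    exact CommRingCat.hom_ext (hom_ext_of_bijective_Nmap FieldEndo.ident f hN g₁.hom g₂.hom
      (congrArg CommRingCat.Hom.hom h3))
  · exact ⟨hc.2⟩

theorem of_isUnivHomeo (h : FlatMor.IsUnivHomeo (Spec.map (CommRingCat.ofHom f)))
    (hr : HTop.ResidueFieldsIso (Spec.map (CommRingCat.ofHom f))) :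
    f.IsIntegral ∧ Function.Bijective (FieldEndo.ident.{u}.Nmap f) := by
  obtain ⟨h1, h2, h3⟩ := (Groth.Agent.FlatA.UnivHomeo.isUnivHomeo_iff _).mp h
  rw [IsIntegralHom.SpecMap_iff] at h1
  exact ⟨h1, (bijective_Nmap_ident_iff f).mpr ⟨⟨(Scheme.Hom.injective (Spec.map (CommRingCat.ofHom f))), h3.surj⟩, hr⟩⟩

/-- S13826 -/
theorem isRingSN_q (A : Type u) [CommRing A] (hA : (minimalPrimes A).Finite) :
    HTop.IsRingSN (EtaPt.FieldEndo.ident.{u}.q A) := by
  refine ⟨isUnivHomeo_of _ (isIntegral_q _ hA) (bijective_Nmap_q _ hA), fun C _ ψ h1 h2 => ?_⟩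
  obtain ⟨h3, h4⟩ := of_isUnivHomeo ψ h1 h2
  exact existsUnique_lift FieldEndo.ident ψ h3 h4

/-- `N_η` of `A → (B/A)_η` is bijective -/
theorem bijective_Nmap_qRel (η : FieldEndo.{u}) {A B : Type u} [CommRing A] [CommRing B]
    (hA : (minimalPrimes A).Finite) (f : A →+* B)
    (hs : Function.Surjective (PrimeSpectrum.comap f)) : Function.Bijective (η.Nmap (η.qRel f)) := by
  obtain ⟨s, hs1, hs2⟩ := exists_relToM η f hs
  obtain ⟨hint, hc⟩ := isIntegral_qRel_and_comap_bijective η f hA hs
  refine ⟨Nmap_injective_of_surjective η _ hc.2, fun y => ?_⟩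
  -- `Nmap s` is injective
  have hsurj : Function.Surjective (PrimeSpectrum.comap s) := by
    intro Q
    obtain ⟨Q', hQ'⟩ := (comap_q_bijective η hA).2 (PrimeSpectrum.comap (η.qRel f) Q)
    refine ⟨Q', hc.1 ?_⟩
    rw [← hQ', ← hs2]
    rfl
  have hinj := Nmap_injective_of_surjective η s hsurj
  obtain ⟨x, hx⟩ := (bijective_Nmap_q η hA).2 (η.Nmap s y)
  refine ⟨x, hinj ?_⟩
  rw [← Nmap_comp, hs2, hx]

/-- S13830 -/
theorem rel_ident (A B : Type u) [CommRing A] [CommRing B] [Algebra A B] (hA : (minimalPrimes A).Finite)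
    (hs : Function.Surjective (PrimeSpectrum.comap (algebraMap A B))) :
    (FlatMor.IsUnivHomeo (Spec.map (CommRingCat.ofHom (EtaPt.FieldEndo.ident.{u}.qRel (algebraMap A B)))) ∧
      HTop.ResidueFieldsIso (Spec.map (CommRingCat.ofHom (EtaPt.FieldEndo.ident.{u}.qRel (algebraMap A B))))) ∧
    ∀ C : Subalgebra A B,
      FlatMor.IsUnivHomeo (Spec.map (CommRingCat.ofHom (algebraMap A C))) →
      HTop.ResidueFieldsIso (Spec.map (CommRingCat.ofHom (algebraMap A C))) →
      C.toSubring ≤ EtaPt.FieldEndo.ident.{u}.rel (algebraMap A B) := by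
  refine ⟨isUnivHomeo_of _ (isIntegral_qRel_and_comap_bijective _ _ hA hs).1 (bijective_Nmap_qRel _ hA _ hs),
    fun C h1 h2 c hc => ?_⟩
  obtain ⟨h3, h4⟩ := of_isUnivHomeo _ h1 h2
  obtain ⟨x, hx, hxc⟩ := (bijOn_Nmap_M FieldEndo.ident (algebraMap A C) h3 h4).surjOn
    (FieldEndo.ident.{u}.t_mem_M C ⟨c, hc⟩)
  refine (mem_rel_iff _ _ _).mpr ⟨x, hx, ?_⟩
  have : algebraMap A B = (C.val.toRingHom).comp (algebraMap A C) := rfl
  rw [this, Nmap_comp, hxc, FieldEndo.Nmap_t_apply]
  rfl

end K797.EtaSpecRes
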