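import Groth.Agent.EtaPt.K797.Base
import Mathlib.RingTheory.Valuation.LocalSubring
import Mathlib.FieldTheory.IsAlgClosed.AlgebraicClosure
import Mathlib.RingTheory.Spectrum.Prime.Topology

/-! Valuation rings and the pointwise construction `M_η` (namespace `EtaPt`). -/

set_option autoImplicit false
universe u
open EtaPt K797.EtaBase

namespace K797.EtaVal

/-- Spec of a local injection from a valuation ring to a domain is surjective. -/
theorem comap_surjective_of_local {R R' : Type*} [CommRing R] [IsDomain R] [ValuationRing R]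
    [CommRing R'] [IsDomain R'] (i : R →+* R') [IsLocalHom i] (hi : Function.Injective i) :
    Function.Surjective (PrimeSpectrum.comap i) := by
  intro p
  change p ∈ Set.range (PrimeSpectrum.comap i)
  rw [PrimeSpectrum.mem_range_comap_iff]
  refine le_antisymm (fun x hx => ?_) Ideal.le_comap_map
  have key : ∀ y ∈ p.asIdeal.map i, ∃ a ∈ p.asIdeal, ∃ r, y = i a * r := by
    intro y hy
    refine Submodule.span_induction ?_ ?_ ?_ ?_ hy
    · rintro _ ⟨a, ha, rfl⟩
      exact ⟨a, ha, 1, by simp⟩
    · exact ⟨0, zero_mem _, 0, by simp⟩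
    · rintro _ _ _ _ ⟨a, ha, r, rfl⟩ ⟨b, hb, s, rfl⟩
      rcases ValuationRing.dvd_total a b with ⟨c, rfl⟩ | ⟨c, rfl⟩
      · exact ⟨a, ha, r + i c * s, by rw [map_mul]; ring⟩
      · exact ⟨b, hb, i c * r + s, by rw [map_mul]; ring⟩
    · rintro c _ _ ⟨a, ha, r, rfl⟩
      exact ⟨a, ha, c * r, by rw [smul_eq_mul]; ring⟩
  obtain ⟨a, ha, r, hr⟩ := key (i x) hx
  rcases ValuationRing.dvd_total a x with ⟨c, rfl⟩ | ⟨c, rfl⟩
  · exact Ideal.mul_mem_right _ _ ha
  · by_cases hx0 : x = 0
    · rw [hx0]; exact zero_mem _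
    have h1 : i c * r = 1 := by
      have : i x ≠ 0 := by rwa [Ne, map_eq_zero_iff i hi]
      apply mul_left_cancel₀ this
      rw [mul_one, ← mul_assoc, ← map_mul, ← hr]
    have h2 : IsUnit c := isUnit_of_map_unit i c (IsUnit.of_mul_eq_one r h1)
    obtain ⟨d, hd⟩ := h2.exists_right_inv
    have : x = x * c * d := by rw [mul_assoc, hd, mul_one]
    rw [this]
    exact Ideal.mul_mem_right _ _ ha

variable (η : FieldEndo.{u})

/-- `η.t` has its range reflected along local injections from a valuation ring in `V_η` to a domain. -/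
theorem mem_range_t_of_local {R R' : Type u} [CommRing R] [IsDomain R] [ValuationRing R]
    [CommRing R'] [IsDomain R'] (i : R →+* R') [IsLocalHom i] (hi : Function.Injective i)
    (hR : η.InV R) (y : η.N R) (h : η.Nmap i y ∈ (η.t R').range) : y ∈ (η.t R).range := by
  obtain ⟨r', hr'⟩ := h
  let K := FractionRing R
  let K' := FractionRing R'
  let j : K →+* K' := IsLocalization.map K' (T := nonZeroDivisors R') i
    (nonZeroDivisors_le_comap_nonZeroDivisors_of_injective i hi)
  have hj : ∀ a : R, j (algebraMap R K a) = algebraMap R' K' (i a) := fun a =>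
    IsLocalization.map_eq _ a
  have hjc : j.comp (algebraMap R K) = (algebraMap R' K').comp i := RingHom.ext hj
  obtain ⟨s, hs⟩ := hR.2 (ev η (algebraMap R K) y)
  have h1 : j s = algebraMap R' K' r' := by
    apply (η.eta K').injective
    rw [← eta_nat, hs, ← ev_comp, hjc, ← ev_Nmap, ← hr', ev_t]
  obtain ⟨r, rfl⟩ : ∃ r, i r = r' := by
    obtain ⟨a, b, hb, rfl⟩ := IsFractionRing.div_surjective (A := R) s
    have hb0 : b ≠ 0 := nonZeroDivisors.ne_zero hb
    have hib : algebraMap R' K' (i b) ≠ 0 := by
      rw [Ne, map_eq_zero_iff _ (IsFractionRing.injective R' K'), map_eq_zero_iff i hi]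
      exact hb0
    rw [map_div₀, hj, hj, div_eq_iff hib, ← map_mul] at h1
    have h2 : i a = r' * i b := IsFractionRing.injective R' K' h1
    rcases ValuationRing.dvd_total b a with ⟨c, rfl⟩ | ⟨c, rfl⟩
    · refine ⟨c, ?_⟩
      have : i b ≠ 0 := by rwa [Ne, map_eq_zero_iff i hi]
      apply mul_right_cancel₀ this
      rw [← h2, map_mul, mul_comm]
    · by_cases ha : a = 0
      · exact absurd (by rw [ha, zero_mul]) hb0
      have hia : i a ≠ 0 := by rwa [Ne, map_eq_zero_iff i hi]
      have h3 : i c * r' = 1 := by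
        apply mul_left_cancel₀ hia
        rw [map_mul] at h2
        rw [mul_one]
        conv_rhs => rw [h2]
        ring
      obtain ⟨d, hd⟩ := (isUnit_of_map_unit i c (IsUnit.of_mul_eq_one r' h3)).exists_left_inv
      refine ⟨d, ?_⟩
      have h4 : i d * i c = 1 := by rw [← map_mul, hd, map_one]
      calc i d = i d * (i c * r') := by rw [h3, mul_one]
        _ = r' := by rw [← mul_assoc, h4, one_mul]
  refine ⟨r, ?_⟩
  apply Nmap_injective_of_surjective η i (comap_surjective_of_local i hi)
  rw [η.Nmap_t_apply, hr']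

/-- Lifting a map to a valuation ring along an integral ring map: if `f : A → B` is integral and some
prime of `B` lies over the kernel of `g : A → R`, then there is a valuation ring `R'` in `V_η` with
compatible maps from `B` and (local, injective) from `R` (`R` may be any local domain). -/
theorem exists_valuationRing {A B R : Type u} [CommRing A] [CommRing B] [CommRing R] [IsDomain R]
    [IsLocalRing R] (f : A →+* B) (hf : f.IsIntegral) (g : A →+* R)
    (P : PrimeSpectrum B) (hP : P.asIdeal.comap f = RingHom.ker g) :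
    ∃ (Ω : Type u) (_ : Field Ω) (_ : IsAlgClosed Ω) (V : ValuationSubring Ω) (i : R →+* V) (h : B →+* V),
      IsLocalHom i ∧ Function.Injective i ∧ i.comp g = h.comp f := by
  let K := FractionRing R
  let Ω := AlgebraicClosure K
  let iΩ : R →+* Ω := (algebraMap K Ω).comp (algebraMap R K)
  have hiΩ : Function.Injective iΩ :=
    (algebraMap K Ω).injective.comp (IsFractionRing.injective R K)
  let p : Ideal A := P.asIdeal.comap f
  let k := p.ResidueField
  let l := P.asIdeal.ResidueField
  let κ : k →+* l := Ideal.ResidueField.map p P.asIdeal f rfl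
  let _ : Algebra k l := κ.toAlgebra
  -- map from k to Ω
  have hker : RingHom.ker (iΩ.comp g) = p := by
    rw [← RingHom.comap_ker, (RingHom.injective_iff_ker_eq_bot _).mp hiΩ, ← RingHom.ker_eq_comap_bot]
    exact hP.symm
  let γ : k →+* Ω := Ideal.ResidueField.lift p (iΩ.comp g) hker.ge
    fun a ha => isUnit_iff_ne_zero.mpr fun h => ha (by rw [← hker]; exact h)
  have hγ : ∀ a : A, γ (algebraMap A k a) = iΩ (g a) := fun a =>
    Ideal.ResidueField.lift_algebraMap _ _ _ _ _
  let _ : Algebra k Ω := γ.toAlgebra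
  have hκ : ∀ a : A, κ (algebraMap A k a) = algebraMap B l (f a) := fun a =>
    Ideal.ResidueField.map_algebraMap _ _ _ _ _
  have halg : Algebra.IsAlgebraic k l := by
    constructor
    intro y
    obtain ⟨a, b, hb, rfl⟩ := IsFractionRing.div_surjective (A := B ⧸ P.asIdeal) y
    obtain ⟨a, rfl⟩ := Ideal.Quotient.mk_surjective a
    obtain ⟨b, rfl⟩ := Ideal.Quotient.mk_surjective b
    have hint : ∀ c : B, IsAlgebraic k (algebraMap B l c) := by
      intro c
      obtain ⟨q, hq, hq0⟩ := hf c
      refine IsIntegral.isAlgebraic ⟨q.map (algebraMap A k), hq.map _, ?_⟩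
      rw [Polynomial.eval₂_map]
      have : (algebraMap k l).comp (algebraMap A k) = (algebraMap B l).comp f := RingHom.ext hκ
      rw [this, ← Polynomial.hom_eval₂, hq0, map_zero]
    rw [Ideal.algebraMap_quotient_residueField_mk, Ideal.algebraMap_quotient_residueField_mk, div_eq_mul_inv]
    exact (hint a).mul (hint b).inv
  let β : l →ₐ[k] Ω := IsAlgClosed.lift
  obtain ⟨V, hV, hloc⟩ := IsLocalRing.exists_factor_valuationRing iΩ
  have hβ : ∀ b : B, β (algebraMap B l b) ∈ V.toSubring := by
    intro b
    obtain ⟨q, hq, hq0⟩ := hf b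
    have hint : IsIntegral V (β (algebraMap B l b)) := by
      refine ⟨q.map ((iΩ.codRestrict V.toSubring hV).comp g), hq.map _, ?_⟩
      rw [Polynomial.eval₂_map]
      have : (algebraMap V Ω).comp ((iΩ.codRestrict V.toSubring hV).comp g) =
          ((β : l →+* Ω).comp (algebraMap B l)).comp f := by
        ext a
        change iΩ (g a) = β (algebraMap B l (f a))
        rw [← hκ, ← hγ]
        exact (β.commutes _).symm
      have h2 := Polynomial.hom_eval₂ q f ((β : l →+* Ω).comp (algebraMap B l)) b
      rw [hq0, map_zero] at h2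
      rw [this]
      exact h2.symm
    obtain ⟨y, hy⟩ := (IsIntegrallyClosed.isIntegral_iff (R := V)).mp hint
    rw [← hy]
    exact y.2
  refine ⟨Ω, inferInstance, inferInstance, V, iΩ.codRestrict V.toSubring hV,
    ((β : l →+* Ω).comp (algebraMap B l)).codRestrict V.toSubring hβ, hloc, ?_, ?_⟩
  · intro a b hab
    exact hiΩ (congrArg Subtype.val hab)
  · ext a
    change iΩ (g a) = β (algebraMap B l (f a))
    rw [← hκ, ← hγ]
    exact (β.commutes _).symm

/-- S13816: an element of `N A` is in `M A` iff its image in `N B` is in `M B`, for `A → B` integral with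
surjective `Spec`. -/
theorem mem_M_iff_Nmap_mem_M {A B : Type u} [CommRing A] [CommRing B] (f : A →+* B)
    (hf : f.IsIntegral) (hs : Function.Surjective (PrimeSpectrum.comap f)) (x : η.N A) :
    x ∈ η.M A ↔ η.Nmap f x ∈ η.M B := by
  refine ⟨Nmap_mem_M η f, fun hx R _ _ _ hR g => ?_⟩
  obtain ⟨P, hP⟩ := hs ⟨RingHom.ker g, RingHom.ker_isPrime g⟩
  obtain ⟨Ω, _, _, V, i, h, hloc, hinj, hcomm⟩ :=
    exists_valuationRing f hf g P (congrArg PrimeSpectrum.asIdeal hP)
  refine mem_range_t_of_local η i hinj hR _ ?_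
  rw [← Nmap_comp, hcomm, Nmap_comp]
  exact hx V ((inV_iff η V Ω).mpr (bijective_eta_of_isAlgClosed η Ω)) h

end K797.EtaVal
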