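import Groth.Agent.EtaPt.K797.Fin
import Mathlib.FieldTheory.Perfect

/-! `M_η(R)` for a valuation ring `R`. -/

set_option autoImplicit false
universe u
open EtaPt K797.EtaBase K797.EtaVal K797.EtaNbij K797.EtaDom K797.EtaIntCl K797.EtaFin

namespace K797.EtaValM

variable (η : FieldEndo.{u}) (R : Type u) [CommRing R] [IsDomain R]

/-- the generic point of a domain -/
abbrev gen : PrimeSpectrum R := ⟨⊥, Ideal.isPrime_bot⟩

theorem injOn_gen : Set.InjOn (fun x : η.N R => x ⟨⊥, Ideal.isPrime_bot⟩) (η.M R) := by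
  intro x hx y hy h
  have h0 : (⟨x, hx⟩ : η.M R) - ⟨y, hy⟩ = 0 := by
    apply Subtype.ext
    funext q
    refine eq_zero_of_le η (p := gen R) (q := q) (bot_le (a := q.asIdeal)) _ ?_
    change x (gen R) - y (gen R) = 0
    exact sub_eq_zero.mpr h
  exact congrArg Subtype.val (sub_eq_zero.mp h0)

/-- an element of `k((0))` whose image under `η` is integral over `R` comes from `R` (`R` integrally closed) -/
theorem exists_of_isIntegralElem [IsIntegrallyClosed R] (z : (⊥ : Ideal R).ResidueField)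
    (h : ((η.eta (⊥ : Ideal R).ResidueField).comp (algebraMap R (⊥ : Ideal R).ResidueField)).IsIntegralElem
      (η.eta _ z)) : ∃ r, algebraMap R _ r = z := by
  obtain ⟨P, hP, hP0⟩ := h
  refine (IsIntegrallyClosed.isIntegral_iff (R := R)).mp ⟨P, hP, ?_⟩
  apply (η.eta _).injective
  rw [Polynomial.hom_eval₂, hP0, map_zero]

/-- S13813, the part where an integral element is shown to be a component -/
theorem exists_mem_M_of_isIntegralElem [ValuationRing R]
    (hη : η.InV R ∨ ∀ (k : Type u) [Field k], ringChar k = ringChar R →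
      Function.Bijective (η.eta k) → PerfectField k)
    (y : η.obj (⊥ : Ideal R).ResidueField)
    (h : ((η.eta (⊥ : Ideal R).ResidueField).comp (algebraMap R (⊥ : Ideal R).ResidueField)).IsIntegralElem y) :
    ∃ x ∈ η.M R, x ⟨⊥, Ideal.isPrime_bot⟩ = y := by
  have easy : (∃ z, η.eta _ z = y) → ∃ x ∈ η.M R, x ⟨⊥, Ideal.isPrime_bot⟩ = y := by
    rintro ⟨z, rfl⟩
    obtain ⟨r, rfl⟩ := exists_of_isIntegralElem η R z h
    exact ⟨η.t R r, η.t_mem_M R r, rfl⟩
  rcases hη with hV | hperf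
  · exact easy (((inV_iff η R (⊥ : Ideal R).ResidueField).mp hV).2 y)
  -- the perfect case
  obtain ⟨n, z, hz⟩ := exists_eta_eq_pow η _ y
  let K := (⊥ : Ideal R).ResidueField
  rcases expChar_is_prime_or_one K (ringExpChar K) with hp | h1
  swap
  · refine easy ⟨z, ?_⟩
    rw [hz]
    have : ringExpChar (⊥ : Ideal R).ResidueField = 1 := h1
    rw [this, one_pow, pow_one]
  have : Fact (ringExpChar K).Prime := ⟨hp⟩
  obtain ⟨p, hpK⟩ : ∃ p, p = ringExpChar K := ⟨_, rfl⟩
  have hpF : Fact p.Prime := ⟨by rw [hpK]; exact hp⟩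
  have hexpK : ExpChar K p := by rw [hpK]; infer_instance
  have hcharK : CharP K p := by
    rcases hexpK with _ | _
    · exact absurd hpF.out Nat.not_prime_one
    · assumption
  have hcharR : CharP R p := (RingHom.charP_iff (algebraMap R K) (IsFractionRing.injective R K) p).mpr hcharK
  have hcharE : ∀ (E : Type u) [Field E], (R →+* E) → CharP E p := by
    intro E _ φ
    have h0 : (p : E) = 0 := by rw [← map_natCast φ, CharP.cast_eq_zero, map_zero]
    exact (CharP.charP_iff_prime_eq_zero hpF.out).mpr h0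
  have hexpE : ∀ (E : Type u) [Field E], (R →+* E) → ExpChar E p := by
    intro E _ φ
    have := hcharE E φ
    infer_instance
  have hperfE : ∀ (E : Type u) [Field E], (R →+* E) → Function.Bijective (η.eta E) → ∀ (n : ℕ) (w : E),
      ∃ v : E, v ^ p ^ n = w := by
    intro E _ φ hE n w
    have := hcharE E φ
    have : PerfectField E := hperf E (by rw [ringChar.eq E p, ringChar.eq R p]) hE
    obtain ⟨v, hv⟩ := (bijective_iterateFrobenius E p n).2 w
    exact ⟨v, hv⟩
  have hzint : ((η.eta (⊥ : Ideal R).ResidueField).comp (algebraMap R (⊥ : Ideal R).ResidueField)).IsIntegralElem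
      (η.eta _ z) := by
    rw [hz]
    rw [← isIntegral_range_iff] at h ⊢
    exact h.pow _
  obtain ⟨r, rfl⟩ := exists_of_isIntegralElem η R z hzint
  have hx : ∀ q : PrimeSpectrum R, ∃ v : η.obj q.asIdeal.ResidueField, v ^ p ^ n =
      η.eta _ (algebraMap R _ r) := fun q =>
    hperfE (η.obj q.asIdeal.ResidueField) (phi η q) (bijective_eta_obj η _) n _
  choose x hx using hx
  refine ⟨x, mem_M_of_pow_eq_t η x r n p hexpE (fun S _ _ _ hS g => ?_) (funext hx), ?_⟩
  · exact hperfE (FractionRing S) ((algebraMap S _).comp g) hS n _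
  · refine pow_inj (K := K) (η.eta K) n ?_
    rw [← hpK, hx ⟨⊥, Ideal.isPrime_bot⟩, hz, hpK]

/-- S13813 -/
theorem main [ValuationRing R]
    (hη : η.InV R ∨ ∀ (k : Type u) [Field k], ringChar k = ringChar R →
      Function.Bijective (η.eta k) → PerfectField k) :
    Set.InjOn (fun x : η.N R => x ⟨⊥, Ideal.isPrime_bot⟩) (η.M R) ∧
      (fun x : η.N R => x ⟨⊥, Ideal.isPrime_bot⟩) '' (η.M R : Set (η.N R)) =
        {y | ((η.eta (⊥ : Ideal R).ResidueField).comp
          (algebraMap R (⊥ : Ideal R).ResidueField)).IsIntegralElem y} := by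
  refine ⟨injOn_gen η R, Set.ext fun y => ⟨?_, fun hy => exists_mem_M_of_isIntegralElem η R hη y hy⟩⟩
  rintro ⟨x, hx, rfl⟩
  exact isIntegral_component η ⟨⊥, Ideal.isPrime_bot⟩ hx

/-- an element of `F K` or its inverse is a component -/
theorem exists_or_inv [ValuationRing R]
    (hη : η.InV R ∨ ∀ (k : Type u) [Field k], ringChar k = ringChar R →
      Function.Bijective (η.eta k) → PerfectField k) (y : η.obj (⊥ : Ideal R).ResidueField) :
    (∃ x : η.M R, x.1 (gen R) = y) ∨ (∃ x : η.M R, x.1 (gen R) = y⁻¹) := by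
  obtain ⟨n, z, hz⟩ := exists_eta_eq_pow η _ y
  have hpos : 0 < ringExpChar (⊥ : Ideal R).ResidueField ^ n :=
    pow_pos (expChar_pos (⊥ : Ideal R).ResidueField _) n
  rcases ValuationRing.isInteger_or_isInteger R z with ⟨r, hr⟩ | ⟨r, hr⟩
  · left
    obtain ⟨x, hx, hxy⟩ := exists_mem_M_of_isIntegralElem η R hη y (by
      refine ⟨Polynomial.X ^ (ringExpChar (⊥ : Ideal R).ResidueField ^ n) - Polynomial.C r,
        Polynomial.monic_X_pow_sub_C _ hpos.ne', ?_⟩
      rw [Polynomial.eval₂_sub, Polynomial.eval₂_pow, Polynomial.eval₂_X, Polynomial.eval₂_C, ← hz,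
        RingHom.comp_apply, hr, sub_self])
    exact ⟨⟨x, hx⟩, hxy⟩
  · right
    obtain ⟨x, hx, hxy⟩ := exists_mem_M_of_isIntegralElem η R hη y⁻¹ (by
      refine ⟨Polynomial.X ^ (ringExpChar (⊥ : Ideal R).ResidueField ^ n) - Polynomial.C r,
        Polynomial.monic_X_pow_sub_C _ hpos.ne', ?_⟩
      rw [Polynomial.eval₂_sub, Polynomial.eval₂_pow, Polynomial.eval₂_X, Polynomial.eval₂_C, inv_pow, ← hz,
        RingHom.comp_apply, hr, map_inv₀, sub_self])
    exact ⟨⟨x, hx⟩, hxy⟩

/-- S13814 -/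
theorem main' [ValuationRing R]
    (hη : η.InV R ∨ ∀ (k : Type u) [Field k], ringChar k = ringChar R →
      Function.Bijective (η.eta k) → PerfectField k) :
    IsDomain (η.M R) ∧ PreValuationRing (η.M R) ∧
      (∀ y : η.obj (⊥ : Ideal R).ResidueField, ∃ a b : η.M R,
        (b : η.N R) ⟨⊥, Ideal.isPrime_bot⟩ ≠ 0 ∧
          y * (b : η.N R) ⟨⊥, Ideal.isPrime_bot⟩ = (a : η.N R) ⟨⊥, Ideal.isPrime_bot⟩) ∧
      (fun x : η.N R => x ⟨⊥, Ideal.isPrime_bot⟩) '' (η.M R : Set (η.N R)) ∩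
          Set.range (η.eta (⊥ : Ideal R).ResidueField) =
        Set.range ((η.eta (⊥ : Ideal R).ResidueField).comp (algebraMap R (⊥ : Ideal R).ResidueField)) := by
  have hinj : Function.Injective (evM η (gen R)) := fun x y h =>
    Subtype.ext (injOn_gen η R x.2 y.2 h)
  refine ⟨hinj.isDomain _, ⟨fun a b => ?_⟩, fun y => ?_, Set.ext fun y => ⟨?_, ?_⟩⟩
  · by_cases ha : evM η (gen R) a = 0
    · have : a = 0 := hinj (by rw [ha, map_zero])
      exact ⟨0, Or.inr (by rw [this, mul_zero])⟩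
    by_cases hb : evM η (gen R) b = 0
    · have : b = 0 := hinj (by rw [hb, map_zero])
      exact ⟨0, Or.inl (by rw [this, mul_zero])⟩
    rcases exists_or_inv η R hη (evM η (gen R) b / evM η (gen R) a) with ⟨c, hc⟩ | ⟨c, hc⟩
    · refine ⟨c, Or.inl (hinj ?_)⟩
      rw [map_mul, evM_apply η _ c, hc, mul_div_cancel₀ _ ha]
    · refine ⟨c, Or.inr (hinj ?_)⟩
      rw [map_mul, evM_apply η _ c, hc, inv_div, mul_div_cancel₀ _ hb]
  · by_cases hy : y = 0
    · exact ⟨0, 1, one_ne_zero, by rw [hy, zero_mul]; rfl⟩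
    rcases exists_or_inv η R hη y with ⟨c, hc⟩ | ⟨c, hc⟩
    · exact ⟨c, 1, one_ne_zero, by rw [hc]; exact mul_one y⟩
    · refine ⟨1, c, ?_, ?_⟩
      · rw [hc]; exact inv_ne_zero hy
      · rw [hc, mul_inv_cancel₀ hy]; rfl
  · rintro ⟨⟨x, hx, rfl⟩, z, hz⟩
    obtain ⟨r, rfl⟩ := exists_of_isIntegralElem η R z (by
      rw [hz]; exact isIntegral_component η ⟨⊥, Ideal.isPrime_bot⟩ hx)
    exact ⟨r, hz⟩
  · rintro ⟨r, rfl⟩
    exact ⟨⟨η.t R r, η.t_mem_M R r, rfl⟩, ⟨_, rfl⟩⟩

end K797.EtaValM
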